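import Cfsg.Agent.ProdAction.NormE
import Cfsg.Agent.ProdAction.Moves

/-!
The inductive step for `m ∈ {5, 6, 7, 9}`.
-/

set_option autoImplicit false

namespace Cfsg.Agent.ProdAction

open Equiv Equiv.Perm

variable {m n : ℕ}

theorem exists_maximal_pGroup {H : Type*} [Group H] [Finite H] {p : ℕ} (L Q : Subgroup H)
    (hQL : Q ≤ L) (hQ : IsPGroup p Q) :
    ∃ P : Subgroup H, Q ≤ P ∧ P ≤ L ∧ IsPGroup p P ∧
      ∀ R : Subgroup H, P ≤ R → R ≤ L → IsPGroup p R → R = P := by
  obtain ⟨P, hle, hP⟩ := Finite.exists_le_maximal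
    (p := fun P : Subgroup H => P ≤ L ∧ IsPGroup p P) (a := Q) ⟨hQL, hQ⟩
  exact ⟨P, hle, hP.1.1, hP.1.2, fun R h1 h2 h3 => le_antisymm (hP.2 ⟨h2, h3⟩ h1) h1⟩

theorem Param.isConj_coord (P : Param m) {k : ℕ} (i j : Fin k) {t : Perm (Fin m)}
    (ht : IsConj t P.v) : IsConj (coord i t) (coord j P.v) := by
  obtain ⟨c, hc⟩ := isConj_iff.1 ht
  refine isConj_iff.2 ⟨act (swap i j) (Pi.mulSingle j c), ?_⟩
  rw [act_conj_coord, swap_apply_left, Pi.mulSingle_eq_same, hc]

theorem Param.v_a' (P : Param m) (hm : 5 ≤ m) (i j : ℕ) : (P.v ^ i * P.v' ^ j) P.a = P.a := by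
  rw [Perm.mul_apply, Perm.pow_apply_eq_self_of_apply_eq_self P.fix',
    Perm.pow_apply_eq_self_of_apply_eq_self (P.v_a hm)]

theorem Param.sign_v' (P : Param m) : sign P.v' = 1 := by
  obtain ⟨c, hc⟩ := isConj_iff.1 P.conj'
  rw [← hc, map_mul, map_mul, map_inv, P.sign_v]; simp

/-- The admissible value permutations. -/
def stabEven (P : Param m) : Subgroup (Perm (Fin m)) where
  carrier := {t | t P.a = P.a ∧ (Odd m → sign t = 1)}
  mul_mem' {s t} hs ht := ⟨by rw [Perm.mul_apply, ht.1, hs.1],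
    fun h => by rw [map_mul, hs.2 h, ht.2 h, mul_one]⟩
  one_mem' := ⟨rfl, fun _ => map_one _⟩
  inv_mem' {t} ht := ⟨by rw [Perm.inv_def, Equiv.symm_apply_eq, ht.1],
    fun h => by rw [map_inv, ht.2 h]; simp⟩

theorem exists_sylow_values (hm : 5 ≤ m) (P : Param m) :
    ∃ S : Subgroup (Perm (Fin m)), S ≤ stabEven P ∧ IsPGroup P.p S ∧ P.v ∈ S ∧ P.v' ∈ S ∧
      ∀ R, S ≤ R → R ≤ stabEven P → IsPGroup P.p R → R = S := by
  obtain ⟨r, hr⟩ := P.hpe
  let Q : Subgroup (Perm (Fin m)) :=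
    { carrier := {t | ∃ i j : ℕ, P.v ^ i * P.v' ^ j = t}
      mul_mem' := by
        rintro _ _ ⟨i, j, rfl⟩ ⟨i', j', rfl⟩
        refine ⟨i + i', j + j', ?_⟩
        rw [pow_add, pow_add, mul_assoc, mul_assoc, ← mul_assoc (P.v' ^ j), ← (P.comm.pow_pow i' j).eq,
          mul_assoc]
      one_mem' := ⟨0, 0, by simp⟩
      inv_mem' := by
        rintro _ ⟨i, j, rfl⟩
        obtain ⟨c, hc⟩ := isConj_iff.1 P.conj'
        have he : P.v' ^ P.e = 1 := by rw [← hc, conj_pow, P.v_pow_e]; group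
        have h1 : 1 ≤ P.e := by rw [hr]; exact Nat.one_le_iff_ne_zero.2 (pow_ne_zero _ P.hp.ne_zero)
        refine ⟨(P.e - 1) * i, (P.e - 1) * j, eq_inv_of_mul_eq_one_right ?_⟩
        rw [mul_assoc, ← mul_assoc (P.v' ^ j), ← (P.comm.pow_pow _ j).eq, mul_assoc, ← pow_add,
          ← mul_assoc, ← pow_add]
        have e1 : i + (P.e - 1) * i = P.e * i := by
          obtain ⟨q, hq⟩ : ∃ q, P.e = q + 1 := ⟨P.e - 1, by omega⟩
          rw [hq]; simp; ring
        have e2 : j + (P.e - 1) * j = P.e * j := by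
          obtain ⟨q, hq⟩ : ∃ q, P.e = q + 1 := ⟨P.e - 1, by omega⟩
          rw [hq]; simp; ring
        rw [e1, e2, pow_mul, pow_mul, P.v_pow_e, he, one_pow, one_pow, one_mul] }
  have hQp : IsPGroup P.p Q := by
    rintro ⟨_, i, j, rfl⟩
    refine ⟨r, Subtype.ext ?_⟩
    obtain ⟨c, hc⟩ := isConj_iff.1 P.conj'
    have he : P.v' ^ P.e = 1 := by rw [← hc, conj_pow, P.v_pow_e]; group
    show (P.v ^ i * P.v' ^ j) ^ P.p ^ r = 1
    rw [← hr, (P.comm.pow_pow i j).mul_pow, ← pow_mul, ← pow_mul, mul_comm i, mul_comm j, pow_mul,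
      pow_mul, P.v_pow_e, he, one_pow, one_pow, one_mul]
  have hQle : Q ≤ stabEven P := by
    rintro _ ⟨i, j, rfl⟩
    exact ⟨P.v_a' hm i j, fun _ => by rw [map_mul, map_pow, map_pow, P.sign_v, P.sign_v']; simp⟩
  obtain ⟨S, h1, h2, h3, h4⟩ := exists_maximal_pGroup _ _ hQle hQp
  exact ⟨S, h2, h3, h1 ⟨1, 0, by simp⟩, h1 ⟨0, 1, by simp⟩, h4⟩

theorem coord_injective {k : ℕ} (j : Fin k) (hm : 1 ≤ m) :
    Function.Injective (coord j : Perm (Fin m) →* Perm (Pt m k)) := by
  intro s t h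
  refine Equiv.ext fun y => ?_
  have := congrFun (Equiv.ext_iff.1 h (fun _ => y)) j
  simpa [coord_apply] using this

/-- Commuting families of swaps with twist are small. -/
theorem card_commuting_le' (hm : m = 5) (a : Fin m) (S : Finset (Perm (Fin m)))
    (h : ∀ s ∈ S, s * s = 1 ∧ s a = a) (hc : ∀ s ∈ S, ∀ t ∈ S, Commute s t) : S.card ≤ 4 := by
  subst hm
  let c : Perm (Fin 5) := swap a 4
  have e := card_commuting_le (S.map (MulAut.conj c).toEquiv.toEmbedding) (fun s hs => ?_)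
    (fun s hs => ?_) (fun s hs t ht => ?_)
  · simpa using e
  · obtain ⟨x, hx, rfl⟩ := Finset.mem_map.1 hs
    simp [c, Perm.inv_def, (h x hx).2]
  · obtain ⟨x, hx, rfl⟩ := Finset.mem_map.1 hs
    show MulAut.conj c x * MulAut.conj c x = 1
    rw [← map_mul, (h x hx).1, map_one]
  · obtain ⟨x, hx, rfl⟩ := Finset.mem_map.1 hs
    obtain ⟨y, hy, rfl⟩ := Finset.mem_map.1 ht
    exact (hc x hx y hy).map (MulAut.conj c).toMonoidHom

/-- The standing hypotheses on the parameters. -/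
structure Good (P : Param m) : Prop where
  cases : m = 5 ∨ m = 6 ∨ m = 7 ∨ m = 9
  two : P.e = 2 → P.v ≠ P.v' ∧ IsConj (P.v * P.v') P.v

theorem fix_A {π : Perm (Fin (n + 1))} {τ : Fin (n + 1) → Perm (Fin m)} {a b : Fin m} (hba : b ≠ a)
    (hA : act π τ (fun _ => a) = fun _ => a)
    (hB : act π τ (Function.update (fun _ => a) 0 b) = Function.update (fun _ => a) 0 b) :
    (∀ i, τ i a = a) ∧ π 0 = 0 ∧ τ 0 b = b := by
  have h1 : ∀ i, τ i a = a := fun i => by simpa using congrFun hA i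
  have h0 : π 0 = 0 := by
    by_contra hne
    have h := congrFun hB (π 0)
    rw [act_apply, Equiv.symm_apply_apply, Function.update_self, Function.update_of_ne hne] at h
    exact hba ((τ _).injective (h.trans (h1 _).symm))
  refine ⟨h1, h0, ?_⟩
  have h := congrFun hB 0
  rw [act_apply, show π.symm 0 = 0 by rw [Equiv.symm_apply_eq, h0], Function.update_self] at h
  exact h

theorem weight_one (hn : 2 ≤ n) {τ : Fin (n + 1) → Perm (Fin m)} {j : Fin (n + 1)}
    (h : ∀ i, i ≠ j → τ i = 1) : act 1 τ = coord j (τ j) := by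
  show act 1 τ = act 1 (Pi.mulSingle j (τ j))
  congr 1
  funext i
  rcases eq_or_ne i j with rfl | hi
  · simp
  · rw [h i hi, Pi.mulSingle_eq_of_ne hi]

/-- Involutions with the same single fixed point commute on five values. -/
theorem commute_of_fix (hm : m = 5) {a : Fin m} {t t' : Perm (Fin m)} (ht : t * t = 1)
    (ht' : t' * t' = 1) (hf : ∀ x, t x = x ↔ x = a) (hf' : ∀ x, t' x = x ↔ x = a) : Commute t t' := by
  have h2 : ∀ x, t (t x) = x := fun x => Equiv.ext_iff.1 ht x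
  have h2' : ∀ x, t' (t' x) = x := fun x => Equiv.ext_iff.1 ht' x
  have hta : t a = a := (hf a).2 rfl
  have hta' : t' a = a := (hf' a).2 rfl
  refine Equiv.ext fun x => ?_
  rw [Perm.mul_apply, Perm.mul_apply]
  rcases eq_or_ne x a with rfl | hx
  · rw [hta', hta, hta']
  rcases eq_or_ne (t x) (t' x) with he | he
  · rw [← he, h2, he, h2']
  have hne : ∀ y, y ≠ a → t y ≠ y ∧ t' y ≠ y := fun y hy =>
    ⟨fun h => hy ((hf y).1 h), fun h => hy ((hf' y).1 h)⟩
  have htx : t x ≠ a := fun h => hx (t.injective (h.trans hta.symm))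
  have htx' : t' x ≠ a := fun h => hx (t'.injective (h.trans hta'.symm))
  have hcard : ({a, x, t x, t' x} : Finset (Fin m))ᶜ.card = 1 := by
    rw [Finset.card_compl, Fintype.card_fin, Finset.card_insert_of_notMem (by simp [hx.symm, htx.symm, htx'.symm]),
      Finset.card_insert_of_notMem (by simp [(hne x hx).1.symm, (hne x hx).2.symm]),
      Finset.card_pair he]
    omega
  refine Finset.card_le_one.1 hcard.le _ ?_ _ ?_
  · simp only [Finset.mem_compl, Finset.mem_insert, Finset.mem_singleton, not_or]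
    exact ⟨fun h => htx' (t.injective (h.trans hta.symm)), fun h => he (t.injective (by rw [h2, h])),
      fun h => (hne x hx).2 (t.injective h), fun h => (hne _ htx').1 h⟩
  · simp only [Finset.mem_compl, Finset.mem_insert, Finset.mem_singleton, not_or]
    exact ⟨fun h => htx (t'.injective (h.trans hta'.symm)),
      fun h => he (t'.injective (by rw [h2', h])),
      fun h => (hne _ htx).2 h, fun h => (hne x hx).1 (t'.injective h)⟩

open Classical in
/-- A maximal commuting family of conjugates of `v` in `W` contains no swap. -/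
theorem no_swap (hm : 5 ≤ m) (hn : 2 ≤ n) (P : Param m) (hP : Good P)
    (T : Finset (Perm (Fin m))) (hTa : ∀ t ∈ T, t P.a = P.a) (hT3 : P.e = 2 → 3 ≤ T.card)
    (M : Finset (Perm (Pt m (n + 1)))) (hcard : T.card * n ≤ M.card)
    (hcomm : ∀ x ∈ M, ∀ y ∈ M, Commute x y)
    (hM : ∀ x ∈ M, (∃ j, j ≠ 0 ∧ ∃ t ∈ T, t ≠ 1 ∧ x = coord j t) ∨
      (P.e = 2 ∧ ∃ i j, i ≠ 0 ∧ j ≠ 0 ∧ i ≠ j ∧ ∃ τ : Fin (n + 1) → Perm (Fin m),
        (∀ l, τ l P.a = P.a) ∧ τ i * τ j = 1 ∧ (∀ l, l ≠ i → l ≠ j → τ l = 1) ∧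
        x = act (swap i j) τ)) :
    ∀ x ∈ M, ∃ j, j ≠ 0 ∧ ∃ t ∈ T, x = coord j t := by
  -- each element gets the set of coordinates it involves
  have hkey : ∀ x ∈ M, ∃ K : Finset (Fin (n + 1)),
      (∃ j, j ≠ 0 ∧ K = {j} ∧ ∃ t ∈ T, t ≠ 1 ∧ x = coord j t) ∨
      (P.e = 2 ∧ ∃ i j, i ≠ 0 ∧ j ≠ 0 ∧ i ≠ j ∧ K = {i, j} ∧ ∃ τ : Fin (n + 1) → Perm (Fin m),
        (∀ l, τ l P.a = P.a) ∧ τ i * τ j = 1 ∧ (∀ l, l ≠ i → l ≠ j → τ l = 1) ∧
        x = act (swap i j) τ) := by
    intro x hx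
    rcases hM x hx with ⟨j, hj, h⟩ | ⟨he, i, j, hi, hj, hij, h⟩
    · exact ⟨{j}, .inl ⟨j, hj, rfl, h⟩⟩
    · exact ⟨{i, j}, .inr ⟨he, i, j, hi, hj, hij, rfl, h⟩⟩
  choose! key hkey using hkey
  have hm2 : 2 ≤ m := by omega
  have hperm : ∀ (π π' : Perm (Fin (n + 1))) (τ τ' : Fin (n + 1) → Perm (Fin m)),
      act π τ = act π' τ' → π = π' := by
    intro π π' τ τ' h
    have h1 : act π τ * (act π' τ')⁻¹ = 1 := mul_inv_eq_one.2 h
    rw [act_inv, act_mul, act_eq_one_iff hm2] at h1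
    exact mul_inv_eq_one.1 h1.1
  have hwt : ∀ (j : Fin (n + 1)) (t : Perm (Fin m)) (π : Perm (Fin (n + 1)))
      (τ : Fin (n + 1) → Perm (Fin m)), Commute (act π τ) (coord j t) → t ≠ 1 → π j = j := by
    intro j t π τ h ht
    by_contra hne
    have h1 := act_conj_coord π τ j t
    rw [h.eq, mul_inv_cancel_right] at h1
    apply ht
    refine Equiv.ext fun y => ?_
    have := congrFun (Equiv.ext_iff.1 h1 (fun _ => y)) j
    rw [coord_apply, coord_apply, Function.update_self, Function.update_of_ne (Ne.symm hne)] at this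
    simpa using this
  have hdisj : ∀ x ∈ M, ∀ y ∈ M, ∀ c, c ∈ key x → c ∈ key y → key x = key y := by
    intro x hx y hy c hcx hcy
    rcases hkey x hx with ⟨j, hj, hK, t, ht, ht1, rfl⟩ | ⟨-, i, j, hi, hj, hij, hK, τ, -, -, -, rfl⟩ <;>
      rcases hkey y hy with ⟨j', hj', hK', t', ht', ht1', rfl⟩ |
        ⟨-, i', j', hi', hj', hij', hK', τ', -, -, -, rfl⟩ <;>
      rw [hK] at hcx ⊢ <;> rw [hK'] at hcy ⊢
    · rw [Finset.mem_singleton] at hcx hcy
      rw [← hcx, ← hcy]
    · exfalso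
      rw [Finset.mem_singleton] at hcx
      subst hcx
      have := hwt _ _ _ _ (hcomm _ hy _ hx) ht1
      rcases Finset.mem_insert.1 hcy with rfl | h
      · exact hij' (by simpa using this.symm)
      · rw [Finset.mem_singleton] at h; subst h; exact hij' (by simpa using this)
    · exfalso
      rw [Finset.mem_singleton] at hcy
      subst hcy
      have := hwt _ _ _ _ (hcomm _ hx _ hy) ht1'
      rcases Finset.mem_insert.1 hcx with rfl | h
      · exact hij (by simpa using this.symm)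
      · rw [Finset.mem_singleton] at h; subst h; exact hij (by simpa using this)
    · have h := (hcomm _ hx _ hy).eq
      rw [act_mul, act_mul] at h
      have h' := hperm _ _ _ _ h
      have hsw : ∀ c d e : Fin (n + 1), c ≠ d → c ≠ e →
          swap c d * swap c e = swap c e * swap c d → d = e := by
        intro c d e hcd hce hh
        by_contra hne
        have := Equiv.ext_iff.1 hh c
        simp only [Perm.mul_apply, swap_apply_left] at this
        rw [swap_apply_of_ne_of_ne hce.symm (Ne.symm hne), swap_apply_of_ne_of_ne hcd.symm hne] at this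
        exact hne this.symm
      simp only [Finset.mem_insert, Finset.mem_singleton] at hcx hcy
      rcases hcx with rfl | rfl <;> rcases hcy with e | e <;> subst e
      · rw [hsw _ _ _ hij hij' h']
      · rw [swap_comm i'] at h'
        rw [hsw _ _ _ hij hij'.symm h', Finset.pair_comm]
      · rw [swap_comm i] at h'
        rw [← hsw _ _ _ hij.symm hij' h', Finset.pair_comm]
      · rw [swap_comm i, swap_comm i'] at h'
        rw [hsw _ _ _ hij.symm hij'.symm h']
  -- the classes are small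
  have hfib : ∀ x ∈ M, (M.filter fun y => key y = key x).card ≤ T.card * (key x).card ∧
      ((key x).card ≠ 1 → (M.filter fun y => key y = key x).card < T.card * (key x).card) := by
    intro x hx
    rcases hkey x hx with ⟨j, hj, hK, -⟩ | ⟨he, i, j, hi, hj, hij, hK, τ, hτa, hτij, hτ1, hxe⟩
    · rw [hK, Finset.card_singleton, mul_one]
      refine ⟨?_, fun h => absurd rfl h⟩
      refine (Finset.card_le_card (t := T.image fun t => coord j t) fun y hy => ?_).trans Finset.card_image_le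
      obtain ⟨hy, hyK⟩ := Finset.mem_filter.1 hy
      rcases hkey y hy with ⟨j', -, hK', t, ht, -, rfl⟩ | ⟨-, i', j', -, -, hij', hK', -⟩
      · obtain rfl := Finset.singleton_inj.1 (hyK.symm.trans hK')
        exact Finset.mem_image_of_mem _ ht
      · have := congrArg Finset.card (hyK.symm.trans hK')
        rw [Finset.card_singleton, Finset.card_pair hij'] at this
        omega
    · have hm5 : m = 5 := by rcases P.count with h | h <;> omega
      rw [hK, Finset.card_pair hij]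
      suffices h4 : (M.filter fun y => key y = {i, j}).card ≤ 4 by
        have := hT3 he
        exact ⟨by omega, fun _ => by omega⟩
      have hform : ∀ y ∈ M.filter (fun y => key y = {i, j}), ∃ τ' : Fin (n + 1) → Perm (Fin m),
          (∀ l, τ' l P.a = P.a) ∧ τ' i * τ' j = 1 ∧ τ' j * τ' i = 1 ∧
          (∀ l, l ≠ i → l ≠ j → τ' l = 1) ∧ y = act (swap i j) τ' := by
        intro y hy
        obtain ⟨hy, hyK⟩ := Finset.mem_filter.1 hy
        rcases hkey y hy with ⟨j', -, hK', -⟩ | ⟨-, i', j', -, -, hij', hK', τ', h1, h2, h3, h4⟩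
        · have := congrArg Finset.card (hyK.symm.trans hK')
          rw [Finset.card_singleton, Finset.card_pair hij] at this
          omega
        · replace hK' := hyK.symm.trans hK'
          have hij2 : (i = i' ∧ j = j') ∨ (i = j' ∧ j = i') := by
            have hi2 : i ∈ ({i', j'} : Finset _) := hK' ▸ Finset.mem_insert_self _ _
            have hj2 : j ∈ ({i', j'} : Finset _) := hK' ▸ Finset.mem_insert_of_mem (Finset.mem_singleton_self _)
            simp only [Finset.mem_insert, Finset.mem_singleton] at hi2 hj2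
            rcases hi2 with h | h <;> rcases hj2 with h' | h'
            · exact absurd (h.trans h'.symm) hij
            · exact .inl ⟨h, h'⟩
            · exact .inr ⟨h, h'⟩
            · exact absurd (h.trans h'.symm) hij
          rcases hij2 with ⟨rfl, rfl⟩ | ⟨rfl, rfl⟩
          · exact ⟨τ', h1, h2, mul_eq_one_comm.1 h2, h3, h4⟩
          · exact ⟨τ', h1, mul_eq_one_comm.1 h2, h2, fun l hl hl' => h3 l hl' hl, by rwa [swap_comm]⟩
      choose! tw ha h1 h2 h3 h4 using hform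
      set F := M.filter fun y => key y = {i, j}
      have hxF : x ∈ F := Finset.mem_filter.2 ⟨hx, hK⟩
      let δ : Perm (Pt m (n + 1)) → Perm (Fin m) := fun y => tw y i * tw x j
      have hval : ∀ y ∈ F, y * x = act 1 (fun l => if l = i then δ y else if l = j then tw y j * tw x i else 1) := by
        intro y hy
        conv_lhs => rw [h4 y hy, h4 x hxF, act_mul]
        congr 1
        · simp
        · funext l
          by_cases hli : l = i
          · subst hli; simp [δ]
          by_cases hlj : l = j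
          · subst hlj; simp [hli]
          simp [hli, hlj, swap_apply_of_ne_of_ne hli hlj, h3 y hy l hli hlj, h3 x hxF l hli hlj]
      have hinj : Set.InjOn δ F := by
        intro y hy y' hy' h
        rw [Finset.mem_coe] at hy hy'
        have hi' : tw y i = tw y' i := mul_right_cancel h
        have hj' : tw y j = tw y' j := by
          rw [eq_inv_of_mul_eq_one_right (h1 y hy), eq_inv_of_mul_eq_one_right (h1 y' hy'), hi']
        rw [h4 y hy, h4 y' hy']
        congr 1
        funext l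
        by_cases hli : l = i
        · subst hli; exact hi'
        by_cases hlj : l = j
        · subst hlj; exact hj'
        rw [h3 y hy l hli hlj, h3 y' hy' l hli hlj]
      have hat : ∀ y ∈ F, ∀ v : Fin m, (y * x) (fun _ => v) i = δ y v := fun y hy v => by
        rw [hval y hy]; simp
      have hmul : ∀ y ∈ F, ∀ y' ∈ F, ∀ v : Fin m, (y * x * (y' * x)) (fun _ => v) i = δ y (δ y' v) := by
        intro y hy y' hy' v
        rw [hval y hy, hval y' hy', act_mul]; simp [Perm.one_def]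
      rw [← Finset.card_image_of_injOn hinj]
      refine card_commuting_le' hm5 P.a _ (fun s hs => ?_) (fun s hs t ht => ?_)
      · obtain ⟨y, hy, rfl⟩ := Finset.mem_image.1 hs
        refine ⟨Equiv.ext fun v => ?_, by simp [δ, ha y hy, ha x hxF]⟩
        rw [Perm.mul_apply, ← hmul y hy y hy v]
        have hyy : ∀ z ∈ F, z * z = 1 := fun z hz => by
          rw [h4 z hz, act_mul, act_eq_one_iff hm2]
          refine ⟨by simp, funext fun l => ?_⟩
          by_cases hli : l = i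
          · subst hli; simp [h1 z hz]
          by_cases hlj : l = j
          · subst hlj; simp [h2 z hz]
          simp [swap_apply_of_ne_of_ne hli hlj, h3 z hz l hli hlj]
        have hc := (hcomm y (Finset.mem_filter.1 hy).1 x hx).eq
        have : y * x * (y * x) = 1 := by
          conv_lhs => arg 2; rw [hc]
          rw [mul_assoc, ← mul_assoc x x y, hyy x hxF, one_mul, hyy y hy]
        rw [this]; rfl
      · obtain ⟨y, hy, rfl⟩ := Finset.mem_image.1 hs
        obtain ⟨y', hy', rfl⟩ := Finset.mem_image.1 ht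
        refine Equiv.ext fun v => ?_
        show δ y (δ y' v) = δ y' (δ y v)
        rw [← hmul y hy y' hy' v, ← hmul y' hy' y hy v]
        have hyx := hcomm y (Finset.mem_filter.1 hy).1 x hx
        have hy'x := hcomm y' (Finset.mem_filter.1 hy').1 x hx
        have hyy' := hcomm y (Finset.mem_filter.1 hy).1 y' (Finset.mem_filter.1 hy').1
        rw [((hyy'.mul_right hyx).mul_left (hy'x.symm.mul_right (Commute.refl x))).eq]
  -- count
  intro x hx
  rcases hkey x hx with ⟨j, hj, -, t, ht, -, he⟩ | ⟨he, i, j, hi, hj, hij, hK, -⟩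
  · exact ⟨j, hj, t, ht, he⟩
  exfalso
  have hsum : M.card = ∑ K ∈ M.image key, (M.filter fun y => key y = K).card :=
    Finset.card_eq_sum_card_image key M
  have hlt : M.card < ∑ K ∈ M.image key, T.card * K.card := by
    rw [hsum]
    refine Finset.sum_lt_sum (fun K hK' => ?_) ⟨key x, Finset.mem_image_of_mem _ hx, (hfib x hx).2 ?_⟩
    · obtain ⟨y, hy, rfl⟩ := Finset.mem_image.1 hK'
      exact (hfib y hy).1
    · rw [hK, Finset.card_pair hij]; omega
  have hle : ∑ K ∈ M.image key, K.card ≤ n := by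
    rw [← Finset.card_biUnion (t := fun K => K) (fun K hK' K' hK'' hne => Finset.disjoint_left.2 fun c hc hc' => by
      obtain ⟨y, hy, rfl⟩ := Finset.mem_image.1 hK'
      obtain ⟨y', hy', rfl⟩ := Finset.mem_image.1 hK''
      exact hne (hdisj y hy y' hy' c hc hc'))]
    refine (Finset.card_le_card (t := ({0} : Finset (Fin (n + 1)))ᶜ) fun c hc => ?_).trans (by simp [Finset.card_compl])
    obtain ⟨K, hK', hcK⟩ := Finset.mem_biUnion.1 hc
    obtain ⟨y, hy, rfl⟩ := Finset.mem_image.1 hK'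
    rw [Finset.mem_compl, Finset.mem_singleton]
    rcases hkey y hy with ⟨j', hj', hKy, -⟩ | ⟨-, i', j', hi', hj', -, hKy, -⟩ <;> rw [hKy] at hcK
    · rw [Finset.mem_singleton] at hcK; exact hcK ▸ hj'
    · rcases Finset.mem_insert.1 hcK with h | h
      · exact h ▸ hi'
      · rw [Finset.mem_singleton] at h; exact h ▸ hj'
  rw [← Finset.mul_sum] at hlt
  exact absurd (hlt.trans_le (Nat.mul_le_mul_left _ hle)) (not_lt.2 hcard)

theorem pGroup_max_of_normalizer {H : Type*} [Group H] [Finite H] {p : ℕ} [Fact p.Prime]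
    {K R : Subgroup H} (hR : IsPGroup p R) (hKR : K ≤ R)
    (h : ∀ z ∈ R, (∀ x, x ∈ K ↔ z * x * z⁻¹ ∈ K) → z ∈ K) : R = K := by
  by_contra hne
  have hlt : K.subgroupOf R < ⊤ := by
    rw [lt_top_iff_ne_top, Ne, Subgroup.subgroupOf_eq_top]
    exact fun h' => hne (le_antisymm h' hKR)
  haveI := hR.isNilpotent
  obtain ⟨z, hz, hzK⟩ := SetLike.exists_of_lt (Group.normalizerCondition_of_isNilpotent _ hlt)
  refine hzK (h z.1 z.2 fun x => ?_)
  rw [Subgroup.mem_normalizer_iff] at hz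
  constructor
  · exact fun hx => (hz ⟨x, hKR hx⟩).1 hx
  · intro hx
    have hxR : x ∈ R := by
      have := R.mul_mem (R.mul_mem (R.inv_mem z.2) (hKR hx)) z.2
      convert this using 1
      group
    exact (hz ⟨x, hxR⟩).2 hx

set_option maxHeartbeats 1000000 in
theorem step_main (hm : 5 ≤ m) (hn : 2 ≤ n) (P : Param m) (hP : Good P) (hkey : Key m n)
    {G : Subgroup (Perm (Pt m (n + 1)))} (hW : Wev m (n + 1) ≤ G)
    (hG : Odd m → G ≤ alternatingGroup (Pt m (n + 1)))
    (h2 : MulAction.IsMultiplyPretransitive G (Pt m (n + 1)) 2) :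
    alternatingGroup (Pt m (n + 1)) ≤ G := by
  classical
  rcases rigid_or_alt hm hn hkey hW h2 P with ⟨hR, hH⟩ | halt
  swap
  · exact halt
  by_contra halt
  haveI : Fact P.p.Prime := ⟨P.hp⟩
  obtain ⟨S, hSle, hSp, hvS, hv'S, hSmax⟩ := exists_sylow_values hm P
  set T : Finset (Perm (Fin m)) := Finset.univ.filter fun t => t ∈ S ∧ IsConj t P.v with hTdef
  have hT : ∀ t, t ∈ T ↔ t ∈ S ∧ IsConj t P.v := fun t => by simp [hTdef]
  have hTa : ∀ t ∈ T, t P.a = P.a := fun t ht => (hSle ((hT t).1 ht).1).1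
  have hTfix : ∀ t ∈ T, ∀ x, t x = x ↔ x = P.a := fun t ht =>
    P.fix_iff_of_isConj hm ((hT t).1 ht).2 (hTa t ht)
  have hT1 : ∀ t ∈ T, t ≠ 1 := fun t ht h => P.hba ((hTfix t ht P.b).1 (by rw [h]; rfl))
  set A : Pt m (n + 1) := fun _ => P.a with hA
  set B : Pt m (n + 1) := Function.update (fun _ => P.a) 0 P.b with hB
  let L : Subgroup (Perm (Pt m (n + 1))) :=
    G ⊓ (MulAction.stabilizer (Perm (Pt m (n + 1))) A ⊓ MulAction.stabilizer (Perm (Pt m (n + 1))) B)
  have hL : ∀ x, x ∈ L ↔ x ∈ G ∧ x A = A ∧ x B = B := fun x => by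
    simp [L, Subgroup.mem_inf, MulAction.mem_stabilizer_iff, Perm.smul_def]
  -- the coordinate `p`-group
  let Q : Subgroup (Perm (Pt m (n + 1))) :=
    { carrier := {x | ∃ τ : Fin (n + 1) → Perm (Fin m), τ 0 = 1 ∧ (∀ i, τ i ∈ S) ∧ x = act 1 τ}
      mul_mem' := by
        rintro _ _ ⟨τ, h1, h2, rfl⟩ ⟨τ', h1', h2', rfl⟩
        refine ⟨fun i => τ i * τ' i, by simp [h1, h1'], fun i => S.mul_mem (h2 i) (h2' i), ?_⟩
        rw [act_mul, one_mul]; rfl
      one_mem' := ⟨1, rfl, fun i => S.one_mem, act_one.symm⟩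
      inv_mem' := by
        rintro _ ⟨τ, h1, h2, rfl⟩
        refine ⟨fun i => (τ i)⁻¹, by simp [h1], fun i => S.inv_mem (h2 i), ?_⟩
        rw [act_inv, inv_one]; rfl }
  have hQL : Q ≤ L ⊓ W m (n + 1) := by
    rintro _ ⟨τ, h1, h2, rfl⟩
    refine ⟨(hL _).2 ⟨hW (mem_Wev.2 ⟨act_mem_W _ _, ?_⟩), funext fun i => ?_, funext fun i => ?_⟩,
      act_mem_W _ _⟩
    · rcases Nat.even_or_odd m with h | h
      · exact .inl h
      · refine .inr ?_
        rw [sign_act_one]
        exact Finset.prod_eq_one fun i _ => by rw [sign_coord, (hSle (h2 i)).2 h, one_pow]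
    · simpa [A, Perm.one_def] using (hSle (h2 i)).1
    · rcases eq_or_ne i 0 with rfl | hi
      · simp [B, h1, Perm.one_def]
      · simpa [B, Perm.one_def, Function.update_of_ne hi] using (hSle (h2 i)).1
  have hQp : IsPGroup P.p Q := by
    obtain ⟨r, hr⟩ := hSp.exists_card_eq
    rintro ⟨_, τ, h1, h2, rfl⟩
    refine ⟨r, Subtype.ext ?_⟩
    show act 1 τ ^ P.p ^ r = 1
    have hpow : ∀ k : ℕ, act 1 τ ^ k = act 1 fun i => τ i ^ k := by
      intro k
      induction k with
      | zero => simp only [pow_zero]; exact act_one.symm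
      | succ k ih => rw [pow_succ, ih, act_mul, one_mul]; simp only [pow_succ]; rfl
    rw [hpow, ← act_one]
    congr 1
    funext i
    have := congrArg Subtype.val (pow_card_eq_one' (x := (⟨τ i, h2 i⟩ : S)))
    rw [SubgroupClass.coe_pow, hr] at this
    exact this
  obtain ⟨P0, hQP, hPL, hP0p, hP0max⟩ := exists_maximal_pGroup _ _ hQL hQp
  have hel0 : IsConj (coord 0 P.v : Perm (Pt m (n + 1))) (coord 0 P.v) := IsConj.refl _
  -- the classification of the conjugates of `v` in `P0`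
  have hcomp : ∀ x ∈ P0, IsConj x (coord 0 P.v) →
      (∃ j, j ≠ 0 ∧ ∃ t ∈ T, t ≠ 1 ∧ x = coord j t) ∨
      (P.e = 2 ∧ ∃ i j, i ≠ 0 ∧ j ≠ 0 ∧ i ≠ j ∧ ∃ τ : Fin (n + 1) → Perm (Fin m),
        (∀ l, τ l P.a = P.a) ∧ τ i * τ j = 1 ∧ (∀ l, l ≠ i → l ≠ j → τ l = 1) ∧
        x = act (swap i j) τ) := by
    intro x hx hxc
    obtain ⟨π, τ, rfl⟩ := mem_W_iff.1 (hPL hx).2
    obtain ⟨hxG, hxA, hxB⟩ := (hL _).1 (hPL hx).1
    obtain ⟨hta, hπ0, htb⟩ := fix_A P.hba hxA hxB
    rcases classify P hP.cases hn π τ hπ0 hta htb hxc with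
      ⟨rfl, j, hj, hone, hconj⟩ | ⟨he, i, j, hi, hj, hij, rfl, h1, h3⟩
    · refine .inl ⟨j, hj, τ j, ?_, ?_, weight_one hn hone⟩
      · rw [hT]
        refine ⟨?_, hconj⟩
        rw [weight_one hn hone] at hx hxG
        let R : Subgroup (Perm (Fin m)) := P0.comap (coord j) ⊓ stabEven P
        have hRS : R = S := by
          refine hSmax R (fun s hs => ⟨?_, hSle hs⟩) inf_le_right
            ((hP0p.comap_of_injective (coord j) (coord_injective j (by omega))).to_le inf_le_left)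
          refine hQP ⟨Pi.mulSingle j s, Pi.mulSingle_eq_of_ne hj.symm _, fun i => ?_, rfl⟩
          rcases eq_or_ne i j with rfl | hi
          · simpa using hs
          · rw [Pi.mulSingle_eq_of_ne hi]; exact S.one_mem
        rw [← hRS]
        exact ⟨hx, hta j, fun h => by
          rw [← sign_coord_of_odd h j]; exact mem_alternatingGroup.1 (hG h hxG)⟩
      · intro h
        obtain ⟨c, hc⟩ := isConj_iff.1 hconj
        rw [h, mul_one, mul_inv_cancel] at hc
        exact P.v_ne_one hm hc.symm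
    · exact .inr ⟨he, i, j, hi, hj, hij, τ, hta, h1, h3, rfl⟩
  have hTcoord : ∀ i, i ≠ 0 → ∀ t ∈ T, (coord i t : Perm (Pt m (n + 1))) ∈ P0 := by
    intro i hi t ht
    refine hQP ⟨Pi.mulSingle i t, Pi.mulSingle_eq_of_ne hi.symm _, fun l => ?_, rfl⟩
    rcases eq_or_ne l i with rfl | hl
    · simpa using ((hT t).1 ht).1
    · rw [Pi.mulSingle_eq_of_ne hl]; exact S.one_mem
  -- normalising elements lie in `W`
  have hnorm : ∀ z ∈ L, (∃ r, z ^ P.p ^ r = 1) → (∀ x, x ∈ P0 ↔ z * x * z⁻¹ ∈ P0) →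
      z ∈ W m (n + 1) := by
    intro z hz hzp hzN
    obtain ⟨hzG, hzA, hzB⟩ := (hL z).1 hz
    have hcls : ∀ i, i ≠ 0 → ∀ t ∈ T, z * coord i t * z⁻¹ ∈ P0 ∧
        IsConj (z * coord i t * z⁻¹) (coord 0 P.v) := fun i hi t ht =>
      ⟨(hzN _).1 (hTcoord i hi t ht), IsConj.trans (isConj_iff.2 ⟨z⁻¹, by group⟩)
        (P.isConj_coord i 0 ((hT t).1 ht).2)⟩
    refine (mem_W_or_alt hm hn hW h2 hG P hR (T : Set (Perm (Fin m)))
      ((hT _).2 ⟨hvS, IsConj.refl _⟩) ((hT _).2 ⟨hv'S, P.conj'.symm⟩)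
      (fun t ht => ⟨((hT t).1 ht).2, hTa t ht⟩) hzG hzp hzA hzB ?_).resolve_right halt
    by_cases he : P.e = 2
    swap
    · intro i hi t ht
      rcases hcomp _ (hcls i hi t ht).1 (hcls i hi t ht).2 with ⟨j, hj, t', ht', -, h⟩ | h
      · exact ⟨j, hj, t', ht', h⟩
      · exact absurd h.1 he
    have hT3 : 3 ≤ T.card := by
      obtain ⟨hne, hc⟩ := hP.two he
      have hv' : P.v' ≠ 1 := fun h => P.v_ne_one hm (isConj_one_left.1 (h ▸ P.conj'))
      refine le_of_eq_of_le ?_ (Finset.card_le_card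
        (show ({P.v, P.v', P.v * P.v'} : Finset (Perm (Fin m))) ⊆ T from ?_))
      · exact (Finset.card_eq_three.2 ⟨_, _, _, hne, fun h => hv' (mul_eq_left.1 h.symm),
          fun h => P.v_ne_one hm (mul_eq_right.1 h.symm), rfl⟩).symm
      · intro t ht
        simp only [Finset.mem_insert, Finset.mem_singleton] at ht
        rw [hT]
        rcases ht with rfl | rfl | rfl
        exacts [⟨hvS, IsConj.refl _⟩, ⟨hv'S, P.conj'.symm⟩, ⟨S.mul_mem hvS hv'S, hc⟩]
    set M := (((Finset.univ : Finset (Fin (n + 1))).erase 0) ×ˢ T).image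
      (fun q => z * coord q.1 q.2 * z⁻¹) with hMdef
    have hMmem : ∀ x ∈ M, ∃ i, i ≠ 0 ∧ ∃ t ∈ T, x = z * coord i t * z⁻¹ := by
      intro x hx
      obtain ⟨⟨i, t⟩, hq, rfl⟩ := Finset.mem_image.1 hx
      rw [Finset.mem_product, Finset.mem_erase] at hq
      exact ⟨i, hq.1.1, t, hq.2, rfl⟩
    have hMcard : T.card * n ≤ M.card := by
      rw [hMdef, Finset.card_image_of_injOn ?_, Finset.card_product,
        Finset.card_erase_of_mem (Finset.mem_univ _), Finset.card_univ, Fintype.card_fin,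
        Nat.add_sub_cancel, mul_comm]
      rintro ⟨i, t⟩ hq ⟨i', t'⟩ hq' h
      rw [Finset.mem_coe, Finset.mem_product] at hq hq'
      simp only [mul_left_inj, mul_right_inj] at h
      have hii : i = i' := by
        by_contra hne
        have := congrFun (Equiv.ext_iff.1 h (fun _ => P.b)) i
        rw [coord_apply, coord_apply, Function.update_self, Function.update_of_ne hne] at this
        exact P.hba ((hTfix t hq.2 _).1 this)
      subst hii
      rw [coord_injective i (by omega) h]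
    have hm5 : m = 5 := by rcases P.count with h | h <;> omega
    have hinv : ∀ t ∈ T, t * t = 1 := fun t ht => by
      obtain ⟨c, hc⟩ := isConj_iff.1 ((hT t).1 ht).2.symm
      rw [← hc, ← pow_two, conj_pow, ← he, P.v_pow_e]; group
    intro i hi t ht
    refine no_swap hm hn P hP T hTa (fun _ => hT3) M hMcard (fun x hx y hy => ?_) (fun x hx => ?_) _
      (Finset.mem_image.2 ⟨(i, t), Finset.mem_product.2 ⟨Finset.mem_erase.2 ⟨hi, Finset.mem_univ _⟩, ht⟩, rfl⟩)
    · obtain ⟨i, hi, t, ht, rfl⟩ := hMmem x hx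
      obtain ⟨i', hi', t', ht', rfl⟩ := hMmem y hy
      refine Commute.map ?_ (MulAut.conj z).toMonoidHom
      rcases eq_or_ne i i' with rfl | hne
      · exact (commute_of_fix hm5 (hinv t ht) (hinv t' ht') (hTfix t ht) (hTfix t' ht')).map (coord i)
      · exact coord_comm hne _ _
    · obtain ⟨i, hi, t, ht, rfl⟩ := hMmem x hx
      exact hcomp _ (hcls i hi t ht).1 (hcls i hi t ht).2
  -- `P0` is a Sylow subgroup of `L`
  have hmaxL : ∀ R : Subgroup (Perm (Pt m (n + 1))), P0 ≤ R → R ≤ L → IsPGroup P.p R → R = P0 := by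
    intro R h1 h3 h4
    refine pGroup_max_of_normalizer h4 h1 fun z hz hzN => ?_
    obtain ⟨r, hr⟩ := h4 ⟨z, hz⟩
    have hzW := hnorm z (h3 hz) ⟨r, by simpa using congrArg Subtype.val hr⟩ hzN
    have := hP0max (P0 ⊔ Subgroup.zpowers z) le_sup_left
      (sup_le hPL (Subgroup.zpowers_le.2 ⟨h3 hz, hzW⟩))
      (h4.to_le (sup_le h1 (Subgroup.zpowers_le.2 hz)))
    exact this ▸ Subgroup.mem_sup_right (Subgroup.mem_zpowers z)
  let Syl : Sylow P.p L :=
    { toSubgroup := P0.subgroupOf L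
      isPGroup' := hP0p.comap_subtype
      is_maximal' := fun {Q'} hQ' hle => by
        have h5 := hmaxL (Q'.map L.subtype)
          (fun x hx => ⟨⟨x, (hPL hx).1⟩, hle (show (⟨x, (hPL hx).1⟩ : L) ∈ P0.subgroupOf L from hx), rfl⟩)
          (Subgroup.map_subtype_le Q') (hQ'.map _)
        rw [Subgroup.subgroupOf, ← h5, Subgroup.comap_map_eq_self_of_injective L.subtype_injective] }
  -- the final contradiction
  obtain ⟨i₁, hi₁, -⟩ := exists_ne_ne hn 0
  obtain ⟨i₂, hi₂, hi₁₂⟩ := exists_ne_ne hn i₁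
  set d : Pt m (n + 1) := Function.update (Function.update A i₁ P.b) i₂ P.b with hd
  have hAd : A ≠ d := fun h => P.hba (by
    have := congrFun h i₂
    simpa [d, A] using this.symm)
  have hAB : A ≠ B := fun h => P.hba (by
    have := congrFun h 0
    simpa [A, B] using this.symm)
  obtain ⟨⟨g, hg⟩, hgA, hgd⟩ := MulAction.is_two_pretransitive_iff.1 h2 hAd hAB
  replace hgA : g A = A := hgA
  replace hgd : g d = B := hgd
  have hA0 : A 0 = P.a := rfl
  have hd0 : d 0 = P.a := by simp [d, A, Ne.symm hi₁, Ne.symm hi₂]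
  have hel : ∀ q : Pt m (n + 1), q 0 = P.a → P.el 0 q = q := fun q hq => by
    rw [Param.el, coord_fixed]; exact (P.v_fix hm _).2 hq
  set w := g * P.el 0 * g⁻¹ with hw
  have hginv : g⁻¹ A = A ∧ g⁻¹ B = d := by
    simp only [Perm.inv_def, Equiv.symm_apply_eq]
    exact ⟨hgA.symm, hgd.symm⟩
  have hwL : w ∈ L := by
    refine (hL w).2 ⟨G.mul_mem (G.mul_mem hg (coord_mem_of hm hW 0 fun _ => P.sign_v)) (G.inv_mem hg),
      ?_, ?_⟩
    · rw [hw, Perm.mul_apply, Perm.mul_apply, hginv.1, hel A hA0, hgA]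
    · rw [hw, Perm.mul_apply, Perm.mul_apply, hginv.2, hel d hd0, hgd]
  obtain ⟨r, hr⟩ := P.hpe
  have hwp : IsPGroup P.p (Subgroup.zpowers (⟨w, hwL⟩ : L)) := by
    rw [IsPGroup.iff_card]
    refine (Nat.dvd_prime_pow P.hp).1 (?_ : Nat.card _ ∣ P.p ^ r) |>.imp fun _ h => h.2
    rw [Nat.card_zpowers, ← hr]
    refine orderOf_dvd_of_pow_eq_one (Subtype.ext ?_)
    show w ^ P.e = 1
    rw [hw, conj_pow, Param.el, ← map_pow, P.v_pow_e, map_one]; group
  obtain ⟨Q', hQ'⟩ := hwp.exists_le_sylow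
  obtain ⟨l, hl⟩ := MulAction.exists_smul_eq L Q' Syl
  set g' := (l : Perm (Pt m (n + 1))) * g with hg'
  obtain ⟨hlG, hlA, hlB⟩ := (hL l.1).1 l.2
  have hg'G : g' ∈ G := G.mul_mem hlG hg
  have hg'A : g' A = A := by rw [hg', Perm.mul_apply, hgA, hlA]
  have hg'd : g' d = B := by rw [hg', Perm.mul_apply, hgd, hlB]
  set w' := g' * P.el 0 * g'⁻¹ with hw'
  have hw'P : w' ∈ P0 := by
    have h1 : (⟨w, hwL⟩ : L) ∈ (Q' : Subgroup L) := hQ' (Subgroup.mem_zpowers _)
    have h3 : (MulAut.conj l • (⟨w, hwL⟩ : L)) ∈ (Syl : Subgroup L) := by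
      rw [← hl]
      exact Subgroup.smul_mem_pointwise_smul _ _ _ h1
    have h4 : (((MulAut.conj l • (⟨w, hwL⟩ : L)) : L) : Perm (Pt m (n + 1))) ∈ P0 := h3
    have e : w' = (l : Perm (Pt m (n + 1))) * w * (l : Perm (Pt m (n + 1)))⁻¹ := by
      rw [hw', hg', hw]; group
    rw [e]; exact h4
  obtain ⟨π, τ, hwe⟩ := mem_W_iff.1 (hPL hw'P).2
  have hwc : IsConj w' (coord 0 P.v) := isConj_iff.2 ⟨g'⁻¹, by rw [hw', Param.el]; group⟩
  have hπτ : π 0 = 0 ∧ τ 0 = 1 := by
    obtain ⟨-, hxA, hxB⟩ := (hL w').1 (hPL hw'P).1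
    rw [hwe] at hxA hxB hwc
    obtain ⟨hta, hπ0, htb⟩ := fix_A P.hba hxA hxB
    rcases classify P hP.cases hn π τ hπ0 hta htb hwc with
      ⟨-, j, hj, hone, -⟩ | ⟨-, i, j, hi, hj, -, -, -, h3⟩
    · exact ⟨hπ0, hone 0 hj.symm⟩
    · exact ⟨hπ0, h3 0 hi.symm hj.symm⟩
  obtain ⟨hπ0, hτ0⟩ := hπτ
  obtain ⟨c, hca, hcb⟩ : ∃ c : Fin m, c ≠ P.a ∧ c ≠ P.b := by
    by_contra hno
    push Not at hno
    have := Finset.card_le_card (s := (Finset.univ : Finset (Fin m))) (t := {P.a, P.b}) fun c _ => by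
      rcases eq_or_ne c P.a with rfl | h
      · simp
      · simp [hno c h]
    have h5 : ({P.a, P.b} : Finset (Fin m)).card ≤ 2 := Finset.card_le_two
    simp at this
    omega
  set γ : Perm (Fin m) := swap P.a c * swap P.a P.b with hγ
  have hγ3 : γ.IsThreeCycle := isThreeCycle_swap_mul_swap_same hca.symm P.hba.symm hcb
  have hγa : γ P.a = P.b := by
    rw [hγ, Perm.mul_apply, swap_apply_left, swap_apply_of_ne_of_ne P.hba hcb.symm]
  set x3 : Perm (Pt m (n + 1)) := coord 0 γ with hx3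
  have hx3G : x3 ∈ G := hW (coord_mem_Wev_of_sign 0 hγ3.sign)
  have hcomm3 : Commute w' x3 := by
    have h1 := act_conj_coord π τ 0 γ
    rw [hπ0, hτ0, one_mul, inv_one, mul_one, ← hwe] at h1
    exact mul_inv_eq_iff_eq_mul.1 h1
  set x' := g'⁻¹ * x3 * g' with hx'
  have hx'G : x' ∈ slabGroup G P := by
    refine mem_slabGroup.2 ⟨G.mul_mem (G.mul_mem (G.inv_mem hg'G) hx3G) hg'G, ?_⟩
    show g'⁻¹ * x3 * g' * P.el 0 = P.el 0 * (g'⁻¹ * x3 * g')
    calc g'⁻¹ * x3 * g' * P.el 0 = g'⁻¹ * (x3 * w') * g' := by rw [hw']; group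
      _ = g'⁻¹ * (w' * x3) * g' := by rw [hcomm3.eq]
      _ = _ := by rw [hw']; group
  set σ := restrict hm G P ⟨x', hx'G⟩ with hσdef
  have hσ3 : σ ^ 3 = 1 := by
    rw [hσdef, ← map_pow]
    convert map_one (restrict hm G P) using 2
    refine Subtype.ext ?_
    show x' ^ 3 = 1
    rw [hx', show g'⁻¹ * x3 * g' = g'⁻¹ * x3 * g'⁻¹⁻¹ by group, conj_pow, hx3, ← map_pow,
      ← hγ3.orderOf, pow_orderOf_eq_one, map_one]
    group
  have hel_iff : ∀ q : Pt m (n + 1), P.el 0 q = q ↔ q 0 = P.a := fun q => by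
    rw [Param.el, coord_fixed]; exact P.v_fix hm _
  let φ : Pt m n ≃ {q : Pt m (n + 1) // w' q = q} :=
    ((slabEquiv P.a).trans ((g').subtypeEquiv (q := fun q => w' q = q) fun q => by
      rw [← hel_iff, hw']; simp [Perm.inv_def]))
  have hφ : ∀ f, (φ f).1 = g' (Fin.cons P.a f) := fun f => rfl
  have hfixσ : ∀ f : Pt m n, σ f = f ↔ x3 (φ f).1 = (φ f).1 := by
    intro f
    rw [← (Fin.cons_right_injective (α := fun _ : Fin (n + 1) => Fin m) P.a).eq_iff, hσdef,
      cons_restrict, hφ]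
    simp [hx', Perm.inv_def, Equiv.symm_apply_eq]
  -- the fixed points of `w'` do not involve coordinate `0`
  let rest : (Fin n → Fin m) → Prop := fun u => ∀ i : Fin n, τ i.succ ((Fin.cons P.a u : Pt m (n + 1)) (π.symm i.succ)) = u i
  have hsucc : ∀ i : Fin n, π.symm i.succ ≠ 0 := fun i h => Fin.succ_ne_zero i (by
    rw [← π.apply_symm_apply i.succ, h, hπ0])
  have hfix' : ∀ (x : Fin m) (u : Pt m n), w' (Fin.cons x u) = Fin.cons x u ↔ rest u := by
    intro x u
    rw [hwe, funext_iff, Fin.forall_fin_succ]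
    have h0 : π.symm 0 = 0 := by rw [Equiv.symm_apply_eq, hπ0]
    refine ⟨fun h i => ?_, fun h => ⟨by simp [h0, hτ0], fun i => ?_⟩⟩
    · have := h.2 i
      obtain ⟨j, hj⟩ := Fin.exists_succ_eq.2 (hsucc i)
      rw [act_apply, Fin.cons_succ, ← hj, Fin.cons_succ] at this
      show τ i.succ _ = _
      rw [← hj, Fin.cons_succ]; exact this
    · obtain ⟨j, hj⟩ := Fin.exists_succ_eq.2 (hsucc i)
      have h' := h i
      rw [← hj, Fin.cons_succ] at h'
      rw [act_apply, Fin.cons_succ, ← hj, Fin.cons_succ]; exact h'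
  have hfix3 : ∀ (x : Fin m) (u : Pt m n), x3 (Fin.cons x u) = Fin.cons x u ↔ γ x = x := by
    intro x u; rw [hx3, coord_fixed, Fin.cons_zero]
  let split : Pt m (n + 1) ≃ Fin m × Pt m n := (Fin.consEquiv fun _ => Fin m).symm
  have hcardw : Nat.card {q : Pt m (n + 1) // w' q = q} = m * Nat.card {u // rest u} := by
    rw [show m * Nat.card {u // rest u} = Nat.card (Fin m × {u // rest u}) by rw [Nat.card_prod, Nat.card_fin]]
    refine Nat.card_congr ((split.subtypeEquiv (q := fun q => rest q.2) fun q => ?_).trans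
      { toFun := fun q => (q.1.1, ⟨q.1.2, q.2⟩), invFun := fun q => ⟨(q.1, q.2.1), q.2.2⟩ })
    show w' q = q ↔ rest (Fin.tail q)
    rw [← hfix' (q 0) (Fin.tail q), Fin.cons_self_tail]
  have hcardγ : Nat.card {x // γ x = x} = m - 3 := by
    have h4 : Finset.univ.filter (fun x => γ x = x) = γ.supportᶜ := by ext x; simp
    rw [Nat.card_eq_fintype_card, Fintype.card_subtype, h4, Finset.card_compl, Fintype.card_fin,
      hγ3.card_support]
  have hcard3 : Nat.card {q : {q : Pt m (n + 1) // w' q = q} // x3 q.1 = q.1} =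
      (m - 3) * Nat.card {u // rest u} := by
    rw [← hcardγ, ← Nat.card_prod]
    refine Nat.card_congr ((Equiv.subtypeSubtypeEquivSubtypeInter (fun q : Pt m (n + 1) => w' q = q) (fun q => x3 q = q)).trans
      ((split.subtypeEquiv (q := fun q => rest q.2 ∧ γ q.1 = q.1) fun q => ?_).trans
      ({ toFun := fun q => (⟨q.1.1, q.2.2⟩, ⟨q.1.2, q.2.1⟩), invFun := fun q => ⟨(q.1.1, q.2.1), q.2.2, q.1.2⟩ } :
        {q : Fin m × Pt m n // rest q.2 ∧ γ q.1 = q.1} ≃ {x // γ x = x} × {u // rest u})))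
    show w' q = q ∧ x3 q = q ↔ rest (Fin.tail q) ∧ γ (q 0) = q 0
    rw [← hfix' (q 0) (Fin.tail q), ← hfix3 (q 0) (Fin.tail q), Fin.cons_self_tail]
  have hF : m * Nat.card {f // σ f = f} = (m - 3) * m ^ n := by
    rw [Nat.card_congr (φ.subtypeEquiv (q := fun q => x3 q.1 = q.1) hfixσ), hcard3, mul_left_comm,
      ← hcardw, ← Nat.card_congr φ, Nat.card_fun, Nat.card_fin, Nat.card_fin]
  obtain ⟨j, hj⟩ := moves_one_coord hm hn (hH ⟨⟨x', hx'G⟩, rfl⟩) hσ3 hF
  have hmove : Fin.cons P.a (σ (Fin.tail A)) = d := by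
    rw [hσdef, cons_restrict, show Fin.cons P.a (Fin.tail A) = A from Fin.cons_self_tail A]
    show g'⁻¹ (x3 (g' A)) = d
    rw [hg'A, Perm.inv_def, Equiv.symm_apply_eq, hg'd, hx3, coord_apply, hA, hB, hγa]
  obtain ⟨j₁, rfl⟩ := Fin.exists_succ_eq.2 hi₁
  obtain ⟨j₂, rfl⟩ := Fin.exists_succ_eq.2 hi₂
  have key : ∀ l : Fin n, σ (Fin.tail A) l = d l.succ := fun l => by
    rw [← hmove, Fin.cons_succ]
  have h12 : j₁ ≠ j₂ := fun h => hi₁₂ (h ▸ rfl)
  rcases eq_or_ne j₁ j with h | h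
  · have := (key j₂).symm.trans (hj (Fin.tail A) j₂ (fun e => h12 (h.trans e.symm)))
    simp [d, Fin.tail, A] at this
    exact P.hba this
  · have := (key j₁).symm.trans (hj (Fin.tail A) j₁ h)
    simp [d, Fin.tail, A, h12, Fin.succ_inj] at this
    exact P.hba this

theorem key_step (hm : 5 ≤ m) (hn : 2 ≤ n) (P : Param m) (hP : Good P) (hkey : Key m n) :
    Key m (n + 1) := by
  intro G hW
  rcases Nat.even_or_odd m with hev | hodd
  · rcases le_or_two_transitive hm (by omega) hW with h | h2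
    · exact .inl h
    · exact .inr (step_main hm hn P hP hkey hW (fun h => absurd hev (Nat.not_even_iff_odd.2 h)) h2)
  · have hW' : Wev m (n + 1) ≤ G ⊓ alternatingGroup (Pt m (n + 1)) := fun x hx =>
      ⟨hW hx, mem_alternatingGroup.2 ((mem_Wev.1 hx).2.resolve_left (Nat.not_even_iff_odd.2 hodd))⟩
    rcases le_or_two_transitive hm (by omega) hW' with h | h2
    · exact .inl (le_W_of_inf_alt_le hm (by omega) hodd hW h)
    · exact .inr ((step_main hm hn P hP hkey hW' (fun _ => inf_le_right) h2).trans inf_le_left)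

end Cfsg.Agent.ProdAction
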