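import Cfsg.Agent.Alt.Basic
import Cfsg.Agent.S3681

/-!
# Lifts of small support

A group with a quotient `A_n`, `n ≥ 10`, acting on at most `2 n` points lifts a permutation of small
support to one of small support: a minimal such subgroup acts on its moved points through the
natural action, since the subgroups of `A_n` of index at most `2 n` fix a point.
-/

set_option autoImplicit false
set_option linter.unusedSectionVars false
set_option linter.style.haveILetI false

namespace Cfsg.Agent.ProdAction.LiftAux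

open Equiv Equiv.Perm

variable {Φ : Type*} [Fintype Φ] [DecidableEq Φ]

/-- Binomial coefficients increase up to the middle. -/
theorem choose_mono {n a b : ℕ} (hab : a ≤ b) (hb : 2 * b ≤ n) : n.choose a ≤ n.choose b := by
  induction b, hab using Nat.le_induction with
  | base => exact le_rfl
  | succ c hc ih => exact (ih (by omega)).trans (Nat.choose_le_succ_of_lt_half_left (by omega))

/-- An even permutation carrying one set to another of the same size. -/
theorem exists_even_image {B B' : Finset Φ} (hc : B'.card = B.card)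
    (x x' : Φ) (hx1 : x' ∈ B') (h3 : 3 ≤ B.card ∨ 2 ≤ Bᶜ.card) (hxB : x ∈ B) :
    ∃ g : alternatingGroup Φ, B.image (g : Perm Φ) = B' ∧ (g : Perm Φ) x = x' := by
  classical
  have hcard : Fintype.card {y // y ∈ B} = Fintype.card {y // y ∈ B'} := by
    rw [Fintype.card_coe, Fintype.card_coe, hc]
  let e₀ : {y // y ∈ B} ≃ {y // y ∈ B'} := Fintype.equivOfCardEq hcard
  let e : {y // y ∈ B} ≃ {y // y ∈ B'} := e₀.trans (Equiv.swap (e₀ ⟨x, hxB⟩) ⟨x', hx1⟩)
  let g : Perm Φ := e.extendSubtype
  have hgB : B.image g = B' := by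
    refine Finset.eq_of_subset_of_card_le (fun z hz => ?_) ?_
    · obtain ⟨y, hy, rfl⟩ := Finset.mem_image.1 hz
      exact Equiv.extendSubtype_mem e y hy
    · rw [Finset.card_image_of_injective _ g.injective, hc]
  have hgx : g x = x' := by
    show e.extendSubtype x = x'
    rw [Equiv.extendSubtype_apply_of_mem e x hxB]
    simp [e]
  rcases Int.units_eq_one_or (sign g) with hs | hs
  · exact ⟨⟨g, hs⟩, hgB, hgx⟩
  -- a transposition inside the stabiliser
  obtain ⟨u, v, huv, hfix, hsame⟩ : ∃ u v : Φ, u ≠ v ∧ (x ≠ u ∧ x ≠ v) ∧ (u ∈ B ↔ v ∈ B) := by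
    rcases h3 with h | h
    · obtain ⟨u, hu, v, hv, huv⟩ := Finset.one_lt_card.1 (show 1 < (B.erase x).card by
        rw [Finset.card_erase_of_mem hxB]; omega)
      rw [Finset.mem_erase] at hu hv
      exact ⟨u, v, huv, ⟨hu.1.symm, hv.1.symm⟩, iff_of_true hu.2 hv.2⟩
    · obtain ⟨u, hu, v, hv, huv⟩ := Finset.one_lt_card.1 h
      rw [Finset.mem_compl] at hu hv
      exact ⟨u, v, huv, ⟨fun e => hu (e ▸ hxB), fun e => hv (e ▸ hxB)⟩, iff_of_false hu hv⟩
  refine ⟨⟨g * swap u v, ?_⟩, ?_, ?_⟩
  · rw [Perm.mem_alternatingGroup, map_mul, hs, sign_swap huv]; rfl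
  · have hsw : B.image (swap u v) = B := by
      refine Finset.eq_of_subset_of_card_le (fun z hz => ?_) ?_
      · obtain ⟨y, hy, rfl⟩ := Finset.mem_image.1 hz
        by_cases hyu : y = u
        · subst hyu; rw [swap_apply_left]; exact hsame.1 hy
        by_cases hyv : y = v
        · subst hyv; rw [swap_apply_right]; exact hsame.2 hy
        rwa [swap_apply_of_ne_of_ne hyu hyv]
      · rw [Finset.card_image_of_injective _ (swap u v).injective]
    show B.image (fun z => g (swap u v z)) = B'
    rw [show (fun z => g (swap u v z)) = g ∘ swap u v from rfl, ← Finset.image_image, hsw, hgB]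
  · show g (swap u v x) = x'
    rw [swap_apply_of_ne_of_ne hfix.1 hfix.2, hgx]

/-- A subgroup of the alternating group fixing `x` and a set containing it has index at least the
number of such pairs. -/
theorem pair_le_index {B : Finset Φ} {x : Φ} (hxB : x ∈ B) (h3 : 3 ≤ B.card ∨ 2 ≤ Bᶜ.card)
    {K : Subgroup (alternatingGroup Φ)} (hKx : ∀ k ∈ K, (k : Perm Φ) x = x)
    (hKB : ∀ k ∈ K, B.image (k : Perm Φ) = B) :
    (Fintype.card Φ).choose B.card * B.card ≤ K.index := by
  classical
  have hex : ∀ p : Σ B' : {s : Finset Φ // s.card = B.card}, {y // y ∈ B'.1},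
      ∃ g : alternatingGroup Φ, B.image (g : Perm Φ) = p.1.1 ∧ (g : Perm Φ) x = p.2.1 := fun p =>
    exists_even_image p.1.2 x p.2.1 p.2.2 h3 hxB
  choose g hgB hgx using hex
  have hinj : Function.Injective fun p => (g p : alternatingGroup Φ ⧸ K) := by
    intro p p' hp
    have hk := QuotientGroup.eq.1 hp
    have e1 : p'.1.1 = p.1.1 := by
      rw [← hgB p', ← hgB p]
      conv_rhs => rw [← hKB _ hk, Finset.image_image]
      refine Finset.image_congr fun y _ => ?_
      simp
    have e2 : p'.2.1 = p.2.1 := by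
      rw [← hgx p', ← hgx p]
      conv_rhs => rw [← hKx _ hk]
      simp
    obtain ⟨⟨s, hs⟩, y, hy⟩ := p
    obtain ⟨⟨s', hs'⟩, y', hy'⟩ := p'
    simp only at e1 e2
    subst e1 e2
    rfl
  have := Nat.card_le_card_of_injective _ hinj
  rw [← Subgroup.index_eq_card, Nat.card_eq_fintype_card, Fintype.card_sigma] at this
  refine le_trans (le_of_eq ?_) this
  rw [Finset.sum_const_nat (m := B.card) fun s _ => by rw [Fintype.card_coe]; exact s.2,
    Finset.card_univ, Fintype.card_subtype,
    show (Finset.univ.filter fun s : Finset Φ => s.card = B.card) = Finset.univ.powersetCard B.card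
      by ext s; simp [Finset.mem_powersetCard],
    Finset.card_powersetCard, Finset.card_univ]

/-- A subgroup of the alternating group stabilising a set has index at least the number of sets of
that size. -/
theorem set_le_index {B : Finset Φ} (h3 : 3 ≤ B.card ∨ 2 ≤ Bᶜ.card) (hB : B.Nonempty)
    {K : Subgroup (alternatingGroup Φ)} (hKB : ∀ k ∈ K, B.image (k : Perm Φ) = B) :
    (Fintype.card Φ).choose B.card ≤ K.index := by
  classical
  have hex : ∀ s : {s : Finset Φ // s.card = B.card},
      ∃ g : alternatingGroup Φ, B.image (g : Perm Φ) = s.1 := fun s => by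
    obtain ⟨x, hx⟩ := hB
    obtain ⟨y, hy⟩ : s.1.Nonempty := by
      rw [← Finset.card_pos, s.2]; exact Finset.card_pos.2 ⟨x, hx⟩
    obtain ⟨g, hg, -⟩ := exists_even_image s.2 x y hy h3 hx
    exact ⟨g, hg⟩
  choose g hgB using hex
  have hinj : Function.Injective fun s => (g s : alternatingGroup Φ ⧸ K) := by
    intro s s' hs
    have hk := QuotientGroup.eq.1 hs
    refine Subtype.ext ?_
    rw [← hgB s, ← hgB s']
    conv_lhs => rw [← hKB _ hk, Finset.image_image]
    refine Finset.image_congr fun y _ => ?_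
    simp
  have := Nat.card_le_card_of_injective _ hinj
  rw [← Subgroup.index_eq_card, Nat.card_eq_fintype_card, Fintype.card_subtype,
    show (Finset.univ.filter fun s : Finset Φ => s.card = B.card) = Finset.univ.powersetCard B.card
      by ext s; simp [Finset.mem_powersetCard],
    Finset.card_powersetCard, Finset.card_univ] at this
  exact this

/-- A proper subgroup of index at most twice the degree fixes a point, the degree being at least
ten. -/
theorem exists_fixed_of_index_le (hn : 10 ≤ Fintype.card Φ) {H : Subgroup (alternatingGroup Φ)}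
    (hH : H ≠ ⊤) (hidx : H.index ≤ 2 * Fintype.card Φ) :
    ∃ x : Φ, ∀ h ∈ H, (h : Perm Φ) x = x := by
  classical
  set n := Fintype.card Φ with hndef
  by_contra hcon
  push Not at hcon
  -- no invariant set
  have htrans : ∀ B : Finset Φ, B.Nonempty → (∀ h ∈ H, B.image (h : Perm Φ) = B) → B = Finset.univ := by
    intro B hB hinv
    by_contra hne
    have hBc : Bᶜ.Nonempty := by
      rw [Finset.nonempty_iff_ne_empty, Ne, Finset.compl_eq_empty_iff]; exact hne
    have hinv' : ∀ h ∈ H, Bᶜ.image (h : Perm Φ) = Bᶜ := fun h hh => by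
      refine Finset.eq_of_subset_of_card_le (fun z hz => ?_)
        (by rw [Finset.card_image_of_injective _ (Equiv.injective _)])
      obtain ⟨y, hy, rfl⟩ := Finset.mem_image.1 hz
      rw [Finset.mem_compl] at hy ⊢
      intro hzB
      rw [← hinv h hh] at hzB
      obtain ⟨w, hw, e⟩ := Finset.mem_image.1 hzB
      exact hy ((Equiv.injective _ e) ▸ hw)
    have main : ∀ C : Finset Φ, C.Nonempty → (∀ h ∈ H, C.image (h : Perm Φ) = C) →
        2 * C.card ≤ n → False := by
      intro C hC hCinv hCn
      rcases Nat.lt_or_ge C.card 2 with h1 | h2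
      · obtain ⟨x, hx⟩ := Finset.card_eq_one.1 (show C.card = 1 by
          have := Finset.card_pos.2 hC; omega)
        obtain ⟨h, hh, hne⟩ := hcon x
        apply hne
        have := hCinv h hh
        rwa [hx, Finset.image_singleton, Finset.singleton_inj] at this
      · have h := set_le_index (B := C) (Or.inr (by rw [Finset.card_compl]; omega)) hC
          (K := H) hCinv
        have hc2 := (choose_mono h2 hCn).trans h
        rw [Nat.choose_two_right] at hc2
        have h5 : 9 * n ≤ n * (n - 1) := by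
          rw [mul_comm n]; exact Nat.mul_le_mul_right n (by omega)
        omega
    have hcc := Finset.card_compl B
    rcases Nat.le_total (2 * B.card) n with h | h
    · exact main B hB hinv h
    · exact main Bᶜ hBc hinv' (by omega)
  haveI hpre : MulAction.IsPretransitive H Φ := by
    refine ⟨fun x y => ?_⟩
    have h := htrans (Finset.univ.filter fun z => ∃ h : H, h • x = z) ⟨x, by
      simp only [Finset.mem_filter, Finset.mem_univ, true_and]; exact ⟨1, one_smul _ _⟩⟩ (fun k hk => by
      refine Finset.eq_of_subset_of_card_le (fun z hz => ?_) ?_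
      · obtain ⟨w, hw, rfl⟩ := Finset.mem_image.1 hz
        simp only [Finset.mem_filter, Finset.mem_univ, true_and] at hw ⊢
        obtain ⟨h, rfl⟩ := hw
        exact ⟨⟨k, hk⟩ * h, by rw [mul_smul]; rfl⟩
      · rw [Finset.card_image_of_injective _ (Equiv.injective _)])
    have hy := Finset.mem_univ y
    rw [← h] at hy
    exact (Finset.mem_filter.1 hy).2
  have hn1 : n ≤ H.index := by
    have := Alt.card_le_index_alt (α := Φ) (by rw [Nat.card_eq_fintype_card]; omega) hH
    rwa [Nat.card_eq_fintype_card] at this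
  by_cases hblk : ∀ B : Set Φ, MulAction.IsBlock H B → MulAction.IsTrivialBlock B
  · -- primitive: Bochert
    have hprim : MulAction.IsPreprimitive H Φ := { isTrivialBlock_of_isBlock := fun hB => hblk _ hB }
    haveI : FaithfulSMul H Φ := ⟨fun {a b} h => Subtype.ext (Subtype.ext (Equiv.ext h))⟩
    have hb := S3681.result (G := H) (Ω := Φ) hprim (fun hle => hH (by
      refine top_unique fun a _ => ?_
      obtain ⟨h, hh⟩ := hle a.2
      have : (h : alternatingGroup Φ) = a := Subtype.ext hh
      exact this ▸ h.2))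
    have hcard := Subgroup.card_mul_index H
    haveI : Nontrivial Φ := Fintype.one_lt_card_iff_nontrivial.1 (by omega)
    have h2A := two_mul_nat_card_alternatingGroup (α := Φ)
    rw [Nat.card_perm, Nat.card_eq_fintype_card (α := Φ), ← hcard] at h2A
    have hb' : Nat.card H * (((n + 1) / 2).factorial) ≤ Nat.card H * (2 * H.index) := by
      calc Nat.card H * (((n + 1) / 2).factorial) ≤ n.factorial := hb
        _ = _ := by rw [← h2A]; ring
    have hle := Nat.le_of_mul_le_mul_left hb' Nat.card_pos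
    obtain ⟨m, hm⟩ : ∃ m, (n + 1) / 2 = m + 1 := ⟨(n + 1) / 2 - 1, by omega⟩
    have hm4 : 24 ≤ m.factorial := (show (24 : ℕ) = Nat.factorial 4 from rfl) ▸
      Nat.factorial_le (by omega)
    have h3 : 24 * (m + 1) ≤ (m + 1).factorial := by
      rw [Nat.factorial_succ, mul_comm 24]; exact Nat.mul_le_mul_left _ hm4
    rw [hm] at hle
    omega
  -- imprimitive
  push Not at hblk
  obtain ⟨Bs, hBs, hnt⟩ := hblk
  set B : Finset Φ := Finset.univ.filter fun z => z ∈ Bs with hBdef
  have hmemB : ∀ z, z ∈ B ↔ z ∈ Bs := fun z => by simp [hBdef]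
  have hB2 : 2 ≤ B.card := by
    by_contra hlt
    apply hnt
    refine Or.inl fun a ha b hb => ?_
    exact Finset.card_le_one.1 (by omega) a ((hmemB a).2 ha) b ((hmemB b).2 hb)
  obtain ⟨x, hxB⟩ : B.Nonempty := Finset.card_pos.1 (by omega)
  have hdvd : B.card ∣ n ∧ B.card ≠ n := by
    refine ⟨?_, fun e => hnt (Or.inr (Set.eq_univ_of_forall fun z => (hmemB z).1 ?_))⟩
    · have h := MulAction.IsBlock.ncard_dvd_card hBs ⟨x, (hmemB x).1 hxB⟩
      rwa [show Bs.ncard = B.card by
        rw [← Set.ncard_coe_finset]; congr 1; ext z; simp [hBdef], Nat.card_eq_fintype_card] at h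
    · rw [Finset.eq_univ_of_card B (by rw [e])]; exact Finset.mem_univ z
  have hBn : 2 * B.card ≤ n := by
    obtain ⟨r, hr⟩ := hdvd.1
    rcases r with _ | _ | r
    · omega
    · simp at hr; exact absurd hr.symm hdvd.2
    · rw [hr]; nlinarith
  -- the point stabiliser
  set K : Subgroup (alternatingGroup Φ) := H ⊓ MulAction.stabilizer (alternatingGroup Φ) x with hK
  have hKx : ∀ k ∈ K, (k : Perm Φ) x = x := fun k hk => hk.2
  have hKB : ∀ k ∈ K, B.image (k : Perm Φ) = B := by
    intro k hk
    refine Finset.eq_of_subset_of_card_le (fun z hz => ?_) ?_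
    · obtain ⟨w, hw, rfl⟩ := Finset.mem_image.1 hz
      rw [hmemB] at hw ⊢
      rcases MulAction.isBlock_iff_smul_eq_or_disjoint.1 hBs (⟨k, hk.1⟩ : H) with h | h
      · rw [← h]; exact ⟨w, hw, rfl⟩
      · exact absurd ⟨x, (hmemB x).1 hxB, hk.2⟩
          (fun hx : x ∈ (fun z => (k : Perm Φ) z) '' Bs =>
            Set.disjoint_left.1 h hx ((hmemB x).1 hxB))
    · rw [Finset.card_image_of_injective _ (Equiv.injective _)]
  have hKidx : K.index ≤ 2 * n * n := by
    refine Subgroup.index_inf_le.trans ?_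
    have : (MulAction.stabilizer (alternatingGroup Φ) x).index = n := by
      rw [Alt.index_stabilizer_alt (by rw [Nat.card_eq_fintype_card]; omega), Nat.card_eq_fintype_card]
    rw [this]
    exact Nat.mul_le_mul_right n hidx
  rcases Nat.lt_or_ge B.card 3 with hb2 | hb3
  swap
  · have h := pair_le_index hxB (Or.inl hb3) hKx hKB
    have h' : n.choose 3 * 3 ≤ n.choose B.card * B.card :=
      Nat.mul_le_mul (choose_mono hb3 hBn) hb3
    have e : n.choose 3 * 3 = n.choose 2 * (n - 2) := Nat.choose_succ_right_eq n 2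
    have e2 : 2 * n.choose 2 = n * (n - 1) := by
      have := Nat.choose_succ_right_eq n 1
      rw [Nat.choose_one_right] at this
      norm_num at this ⊢
      omega
    have h8 : n * (n - 1) * 8 ≤ n * (n - 1) * (n - 2) := Nat.mul_le_mul_left _ (by omega)
    have h9 : n * 9 * 8 ≤ n * (n - 1) * 8 :=
      Nat.mul_le_mul_right _ (Nat.mul_le_mul_left _ (by omega))
    have : n * (n - 1) * (n - 2) ≤ 4 * n * n := by
      calc n * (n - 1) * (n - 2) = 2 * (n.choose 3 * 3) := by rw [e, ← e2]; ring
        _ ≤ 2 * (2 * n * n) := Nat.mul_le_mul_left 2 (h'.trans (h.trans hKidx))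
        _ = 4 * n * n := by ring
    have h10 : n * ((n - 1) * 8) ≤ n * (4 * n) := by
      calc n * ((n - 1) * 8) = n * (n - 1) * 8 := (mul_assoc _ _ _).symm
        _ ≤ 4 * n * n := h8.trans this
        _ = n * (4 * n) := by ring
    have := Nat.le_of_mul_le_mul_left h10 (by omega)
    omega
  -- blocks of size two
  obtain ⟨y, hyx, hBxy⟩ : ∃ y, y ≠ x ∧ ∀ w, w ∈ B ↔ w = x ∨ w = y := by
    obtain ⟨a, b, hab, e⟩ := Finset.card_eq_two.1 (show B.card = 2 by omega)
    have hx' : x = a ∨ x = b := by simpa [e] using hxB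
    rcases hx' with rfl | rfl
    · exact ⟨b, hab.symm, fun w => by simp [e]⟩
    · exact ⟨a, hab, fun w => by simp [e, or_comm]⟩
  set S : Subgroup (alternatingGroup Φ) := MulAction.stabilizer (alternatingGroup Φ) x ⊓
    MulAction.stabilizer (alternatingGroup Φ) y with hS
  have hKS : K ≤ S := fun k hk => ⟨hk.2, by
    have h1 := (hBxy ((k : Perm Φ) y)).1 (hKB k hk ▸ Finset.mem_image_of_mem _ ((hBxy y).2 (Or.inr rfl)))
    rcases h1 with h | h
    · exact absurd ((k : Perm Φ).injective (h.trans (hKx k hk).symm)) hyx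
    · exact h⟩
  have hSidx : n.choose 2 * 2 ≤ S.index := by
    have h := pair_le_index (B := B) hxB (Or.inr (by rw [Finset.card_compl]; omega))
      (K := S) (fun k hk => hk.1) (fun k hk => Finset.eq_of_subset_of_card_le (fun z hz => by
        obtain ⟨w, hw, rfl⟩ := Finset.mem_image.1 hz
        rcases (hBxy w).1 hw with rfl | rfl
        · exact (hBxy _).2 (Or.inl hk.1)
        · exact (hBxy _).2 (Or.inr hk.2)) (by rw [Finset.card_image_of_injective _ (Equiv.injective _)]))
    rwa [show B.card = 2 by omega] at h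
  have hrel : K.relIndex S ≤ 2 := by
    by_contra h3
    have h1 := Subgroup.relIndex_mul_index hKS
    have h4 : 3 * (n.choose 2 * 2) ≤ K.index := h1 ▸ Nat.mul_le_mul (by omega) hSidx
    have e2 : n.choose 2 * 2 = n * (n - 1) := by
      have := Nat.choose_succ_right_eq n 1
      rw [Nat.choose_one_right] at this
      norm_num at this ⊢
      omega
    rw [e2] at h4
    obtain ⟨t, ht⟩ : ∃ t, n = t + 10 := ⟨n - 10, by omega⟩
    rw [ht, show t + 10 - 1 = t + 9 by omega] at h4
    rw [ht] at hKidx
    nlinarith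
  -- a three-cycle meeting two blocks
  obtain ⟨z, hz⟩ : ∃ z, z ∉ B := by
    by_contra h
    push Not at h
    exact hdvd.2 (by rw [Finset.eq_univ_iff_forall.2 h, Finset.card_univ])
  obtain ⟨k, hk⟩ := MulAction.exists_smul_eq H x z
  set z' := (k : alternatingGroup Φ).1 y with hz'
  have hk' : (k : alternatingGroup Φ).1 x = z := hk
  have hzz : z' ≠ z := fun e => hyx ((Equiv.injective _) (e.trans hk'.symm))
  have hz'B : z' ∉ B := by
    intro h'
    rcases MulAction.isBlock_iff_smul_eq_or_disjoint.1 hBs k with h | h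
    · exact hz ((hmemB z).2 (h ▸ ⟨x, (hmemB x).1 hxB, hk⟩))
    · exact Set.disjoint_left.1 h ⟨y, (hmemB y).1 ((hBxy y).2 (Or.inr rfl)), rfl⟩ ((hmemB z').1 h')
  have hcard4 : ({x, y, z, z'} : Finset Φ).card < Fintype.card Φ :=
    lt_of_le_of_lt ((Finset.card_insert_le _ _).trans (Nat.succ_le_succ ((Finset.card_insert_le _ _).trans
      (Nat.succ_le_succ ((Finset.card_insert_le _ _).trans (by simp)))))) (by omega : 4 < n)
  obtain ⟨w, hw⟩ : ∃ w, w ∉ ({x, y, z, z'} : Finset Φ) := by
    by_contra h
    push Not at h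
    rw [Finset.eq_univ_iff_forall.2 h, Finset.card_univ] at hcard4
    exact lt_irrefl _ hcard4
  have hcard5 : ({x, y, z, z', w} : Finset Φ).card < Fintype.card Φ :=
    lt_of_le_of_lt ((Finset.card_insert_le _ _).trans (Nat.succ_le_succ ((Finset.card_insert_le _ _).trans
      (Nat.succ_le_succ ((Finset.card_insert_le _ _).trans (Nat.succ_le_succ
        ((Finset.card_insert_le _ _).trans (by simp)))))))) (by omega : 5 < n)
  obtain ⟨w2, hw2⟩ : ∃ w2, w2 ∉ ({x, y, z, z', w} : Finset Φ) := by
    by_contra h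
    push Not at h
    rw [Finset.eq_univ_iff_forall.2 h, Finset.card_univ] at hcard5
    exact lt_irrefl _ hcard5
  simp only [Finset.mem_insert, Finset.mem_singleton, not_or] at hw hw2
  have hzx : z ≠ x := fun e => hz (e ▸ hxB)
  have hzy : z ≠ y := fun e => hz (e ▸ (hBxy y).2 (Or.inr rfl))
  have hz'x : z' ≠ x := fun e => hz'B (e ▸ hxB)
  have hz'y : z' ≠ y := fun e => hz'B (e ▸ (hBxy y).2 (Or.inr rfl))
  let c : alternatingGroup Φ := ⟨swap z w * swap z w2, by
    rw [Perm.mem_alternatingGroup, map_mul, sign_swap (Ne.symm hw.2.2.1), sign_swap (Ne.symm hw2.2.2.1)]; rfl⟩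
  have hc3 : c ^ 3 = 1 := Subtype.ext (by
    show (swap z w * swap z w2) ^ 3 = 1
    have h := (Equiv.Perm.isThreeCycle_swap_mul_swap_same (Ne.symm hw.2.2.1) (Ne.symm hw2.2.2.1)
      (Ne.symm hw2.2.2.2.2)).orderOf
    rw [← h]; exact pow_orderOf_eq_one _)
  have hcS : c ∈ S := by
    constructor <;>
    · show swap z w (swap z w2 _) = _
      first
        | (rw [swap_apply_of_ne_of_ne hzx.symm (Ne.symm hw2.1),
            swap_apply_of_ne_of_ne hzx.symm (Ne.symm hw.1)])
        | (rw [swap_apply_of_ne_of_ne hzy.symm (Ne.symm hw2.2.1),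
            swap_apply_of_ne_of_ne hzy.symm (Ne.symm hw.2.1)])
  have hcK : c ∈ K := by
    have hsq : c * c ∈ K := by
      have h2 : (K.subgroupOf S).index ≤ 2 := hrel
      rcases Nat.lt_or_ge (K.subgroupOf S).index 2 with h | h
      · have h0 : (K.subgroupOf S).index ≠ 0 := Subgroup.index_ne_zero_of_finite
        have := Subgroup.index_eq_one.1 (show (K.subgroupOf S).index = 1 by omega)
        exact K.mul_mem (Subgroup.subgroupOf_eq_top.1 this hcS) (Subgroup.subgroupOf_eq_top.1 this hcS)
      · exact Subgroup.mul_self_mem_of_index_two (show (K.subgroupOf S).index = 2 by omega) ⟨c, hcS⟩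
    have e : c = (c * c) * (c * c) := by
      calc c = c ^ 3 * c := by rw [hc3, one_mul]
        _ = _ := by simp [pow_succ, mul_assoc]
    rw [e]
    exact K.mul_mem hsq hsq
  -- it moves the block of `z` to a set meeting it in `z'`
  have hD : MulAction.IsBlock H ((fun u => k • u) '' Bs) := by
    have := MulAction.IsBlock.translate k hBs
    exact this
  have hcz' : (c : Perm Φ) z' = z' := by
    show swap z w (swap z w2 z') = z'
    rw [swap_apply_of_ne_of_ne hzz (Ne.symm hw2.2.2.2.1), swap_apply_of_ne_of_ne hzz (Ne.symm hw.2.2.2)]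
  have hcz : (c : Perm Φ) z = w2 := by
    show swap z w (swap z w2 z) = w2
    rw [swap_apply_left, swap_apply_of_ne_of_ne hw2.2.2.1 hw2.2.2.2.2]
  have hmem : ∀ u, u ∈ (fun u => k • u) '' Bs ↔ u = z ∨ u = z' := by
    intro u
    constructor
    · rintro ⟨v, hv, rfl⟩
      rcases (hBxy v).1 ((hmemB v).2 hv) with rfl | rfl
      · exact Or.inl hk
      · exact Or.inr rfl
    · rintro (rfl | rfl)
      · exact ⟨x, (hmemB x).1 hxB, hk⟩
      · exact ⟨y, (hmemB y).1 ((hBxy y).2 (Or.inr rfl)), rfl⟩
  rcases MulAction.isBlock_iff_smul_eq_or_disjoint.1 hD (⟨c, hcK.1⟩ : H) with h | h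
  · have : w2 ∈ (fun u => k • u) '' Bs := by
      rw [← h]; exact ⟨z, (hmem z).2 (Or.inl rfl), hcz⟩
    rcases (hmem w2).1 this with h | h
    · exact hw2.2.2.1 h
    · exact hw2.2.2.2.1 h
  · exact Set.disjoint_left.1 h ⟨z', (hmem z').2 (Or.inr rfl), hcz'⟩ ((hmem z').2 (Or.inr rfl))

/-- Two fixed points force a large index. -/
theorem fixed_unique (hn : 10 ≤ Fintype.card Φ) {K : Subgroup (alternatingGroup Φ)} {a b : Φ}
    (hidx : K.index ≤ 2 * Fintype.card Φ) (ha : ∀ k ∈ K, (k : Perm Φ) a = a)
    (hb : ∀ k ∈ K, (k : Perm Φ) b = b) : a = b := by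
  classical
  by_contra hab
  have hc : ({a, b} : Finset Φ).card = 2 := Finset.card_pair hab
  have h := pair_le_index (B := {a, b}) (x := a) (by simp)
    (Or.inr (by rw [Finset.card_compl, hc]; omega)) ha (fun k hk => by
      rw [Finset.image_insert, Finset.image_singleton, ha k hk, hb k hk])
  rw [hc] at h
  have e2 := Nat.choose_succ_right_eq (Fintype.card Φ) 1
  rw [Nat.choose_one_right] at e2
  norm_num at e2
  have : 9 * Fintype.card Φ ≤ Fintype.card Φ * (Fintype.card Φ - 1) := by
    rw [mul_comm (Fintype.card Φ)]; exact Nat.mul_le_mul_right _ (by omega)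
  omega

end Cfsg.Agent.ProdAction.LiftAux

namespace Cfsg.Agent.ProdAction

open Equiv Equiv.Perm LiftAux

/-- A lift of a permutation of small support has small support. -/
theorem exists_small_lift {X Ω Φ : Type*} [Group X] [Finite X] [Fintype Ω] [DecidableEq Ω]
    [Fintype Φ] [DecidableEq Φ] (ψ : X →* Equiv.Perm Ω) (φ : X →* Equiv.Perm Φ)
    (hφ : alternatingGroup Φ ≤ φ.range) (hn : 10 ≤ Fintype.card Φ)
    (hc : Fintype.card Ω ≤ 2 * Fintype.card Φ) (σ : Equiv.Perm Φ) (hσ : σ ∈ alternatingGroup Φ) :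
    (∃ x, φ x = σ ^ 2 ∧ (ψ x).support.card ≤ 2 * σ.support.card) ∧
      (Fintype.card Ω ≤ Fintype.card Φ → ∃ x, φ x = σ ∧ (ψ x).support.card ≤ σ.support.card) := by
  classical
  set n := Fintype.card Φ with hndef
  obtain ⟨Y, hY, hmin⟩ := wellFounded_lt.has_min {Y : Subgroup X | Y.map φ = alternatingGroup Φ}
    ⟨(alternatingGroup Φ).comap φ, Subgroup.map_comap_eq_self hφ⟩
  have hY : Y.map φ = alternatingGroup Φ := hY
  have hYmem : ∀ y ∈ Y, φ y ∈ alternatingGroup Φ := fun y hy => hY ▸ Subgroup.mem_map_of_mem φ hy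
  have hlift : ∀ s ∈ alternatingGroup Φ, ∃ y ∈ Y, φ y = s := fun s hs => by
    rw [← hY] at hs; exact hs
  let φ' : Y →* alternatingGroup Φ := (φ.comp Y.subtype).codRestrict _ fun y => hYmem y y.2
  have hsurj : Function.Surjective φ' := fun s => by
    obtain ⟨y, hy, he⟩ := hlift s s.2
    exact ⟨⟨y, hy⟩, Subtype.ext he⟩
  letI : MulAction Y Ω := MulAction.compHom Ω (ψ.comp Y.subtype)
  have hsm : ∀ (y : Y) (α : Ω), y • α = ψ y α := fun _ _ => rfl
  let M : Finset Ω := Finset.univ.filter fun α => ∃ y : Y, y • α ≠ α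
  have hM : ∀ α ∈ M, (MulAction.stabilizer Y α).map φ' ≠ ⊤ := by
    intro α hα htop
    obtain ⟨-, y, hy⟩ := Finset.mem_filter.1 hα
    refine hmin ((MulAction.stabilizer Y α).map Y.subtype) ?_ ?_
    · show Subgroup.map φ _ = _
      refine le_antisymm ?_ fun s hs => ?_
      · rintro _ ⟨x, ⟨u, -, rfl⟩, rfl⟩
        exact hYmem _ u.2
      · obtain ⟨u, hu, he⟩ := (htop ▸ Subgroup.mem_top (⟨s, hs⟩ : alternatingGroup Φ) :
          (⟨s, hs⟩ : alternatingGroup Φ) ∈ (MulAction.stabilizer Y α).map φ')
        exact ⟨u, Subgroup.mem_map_of_mem _ hu, congrArg Subtype.val he⟩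
    · refine lt_of_le_of_ne (fun x ⟨u, _, e⟩ => e ▸ u.2) fun heq => hy ?_
      have hy' : (y : X) ∈ (MulAction.stabilizer Y α).map Y.subtype := heq.symm ▸ y.2
      obtain ⟨u, hu, e⟩ := hy'
      exact (Subtype.ext e : u = y) ▸ hu
  have hidx : ∀ α : Ω, ((MulAction.stabilizer Y α).map φ').index ≤ 2 * n := by
    intro α
    refine (Nat.le_of_dvd (Nat.pos_of_ne_zero Subgroup.index_ne_zero_of_finite)
      (Subgroup.index_map_dvd _ hsurj)).trans ?_
    rw [Subgroup.index_eq_card, ← Nat.card_congr (MulAction.orbitEquivQuotientStabilizer Y α)]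
    refine (Nat.card_le_card_of_injective (fun o : MulAction.orbit Y α => (o : Ω)) Subtype.val_injective).trans ?_
    rwa [Nat.card_eq_fintype_card]
  have hfix : ∀ α ∈ M, ∃ a : Φ, ∀ k ∈ (MulAction.stabilizer Y α).map φ', (k : Perm Φ) a = a :=
    fun α hα => exists_fixed_of_index_le hn (hM α hα) (hidx α)
  haveI : Nonempty Φ := Fintype.card_pos_iff.1 (by omega)
  choose! f hf using hfix
  have hMinv : ∀ (y : Y) α, α ∈ M → y • α ∈ M := by
    intro y α hα
    obtain ⟨-, u, hu⟩ := Finset.mem_filter.1 hα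
    refine Finset.mem_filter.2 ⟨Finset.mem_univ _, y * u * y⁻¹, fun e => hu ?_⟩
    rw [mul_smul, mul_smul, inv_smul_smul] at e
    exact smul_left_cancel y e
  have hequiv : ∀ (y : Y) α, α ∈ M → f (y • α) = φ y (f α) := by
    intro y α hα
    refine fixed_unique hn (hidx (y • α)) (hf _ (hMinv y α hα)) fun k hk => ?_
    obtain ⟨u, hu, rfl⟩ := hk
    have hmem : φ' (y⁻¹ * u * y) ∈ (MulAction.stabilizer Y α).map φ' := by
      refine Subgroup.mem_map_of_mem _ (MulAction.mem_stabilizer_iff.2 ?_)
      rw [mul_smul, mul_smul, MulAction.mem_stabilizer_iff.1 hu, inv_smul_smul]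
    have h := hf α hα _ hmem
    show φ u (φ y (f α)) = φ y (f α)
    have h' : φ ((y : X)⁻¹ * u * y) (f α) = f α := h
    rw [map_mul, map_mul, map_inv, Perm.mul_apply, Perm.mul_apply, Perm.inv_eq_iff_eq] at h'
    exact h'
  let fib : Φ → Finset Ω := fun a => M.filter fun α => f α = a
  have hfibeq : ∀ a b : Φ, (fib a).card ≤ (fib b).card := by
    intro a b
    obtain ⟨s, hs⟩ : ∃ s : alternatingGroup Φ, (s : Perm Φ) a = b := by
      haveI := alternatingGroup.isPretransitive_of_three_le_card Φ
        (by rw [Nat.card_eq_fintype_card]; omega)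
      exact MulAction.exists_smul_eq (alternatingGroup Φ) a b
    obtain ⟨y, hy⟩ := hsurj s
    refine Finset.card_le_card_of_injOn (fun α => y • α) (fun α hα => ?_)
      (fun α _ β _ e => smul_left_cancel y e)
    obtain ⟨hαM, hαa⟩ := Finset.mem_filter.1 hα
    refine Finset.mem_filter.2 ⟨hMinv y α hαM, ?_⟩
    rw [hequiv y α hαM, hαa, ← hs, ← hy]
    rfl
  obtain ⟨a₀⟩ := ‹Nonempty Φ›
  have hfib : ∀ a, (fib a).card = (fib a₀).card := fun a => le_antisymm (hfibeq _ _) (hfibeq _ _)
  have hMcard : n * (fib a₀).card ≤ Fintype.card Ω := by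
    refine le_trans (le_of_eq ?_) (Finset.card_le_univ M)
    rw [Finset.card_eq_sum_card_fiberwise (s := M) (f := f) (t := Finset.univ) (fun _ _ => Finset.mem_univ _),
      Finset.sum_const_nat (m := (fib a₀).card) (fun a _ => hfib a), Finset.card_univ]
  have hbound : ∀ (x : Y) (c : ℕ), (∀ a, (fib a).card ≤ c) →
      (∀ α ∈ M, f α ∉ σ.support → x • α = α) → (ψ x).support.card ≤ c * σ.support.card := by
    intro x c hfc hx
    have hsub : (ψ x).support ⊆ σ.support.biUnion fib := fun α hα => by
      rw [Perm.mem_support] at hα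
      have hαM : α ∈ M := Finset.mem_filter.2 ⟨Finset.mem_univ _, x, hα⟩
      refine Finset.mem_biUnion.2 ⟨f α, ?_, Finset.mem_filter.2 ⟨hαM, rfl⟩⟩
      by_contra h
      exact hα (hx α hαM h)
    refine (Finset.card_le_card hsub).trans (Finset.card_biUnion_le.trans ?_)
    refine (Finset.sum_le_card_nsmul _ _ c fun a _ => hfc a).trans (le_of_eq ?_)
    rw [smul_eq_mul, mul_comm]
  obtain ⟨y, hy⟩ := hsurj ⟨σ, hσ⟩
  have hyσ : φ y = σ := congrArg Subtype.val hy
  have hstep : ∀ α ∈ M, f α ∉ σ.support → y • α ∈ fib (f α) := fun α hα h =>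
    Finset.mem_filter.2 ⟨hMinv y α hα, by rw [hequiv y α hα, hyσ, Perm.notMem_support.1 h]⟩
  refine ⟨⟨(y * y : Y), by rw [Subgroup.coe_mul, map_mul, hyσ, sq], ?_⟩, fun hle => ⟨y, hyσ, ?_⟩⟩
  · refine hbound _ 2 (fun a => ?_) fun α hα h => ?_
    · rw [hfib a]
      by_contra h3
      have := Nat.mul_le_mul_left n (show 3 ≤ (fib a₀).card by omega)
      omega
    · by_contra hne
      rw [mul_smul] at hne
      have h1 := hstep α hα h
      have hf1 : f (y • α) = f α := (Finset.mem_filter.1 h1).2
      have h2 := hstep (y • α) (hMinv y α hα) (hf1 ▸ h)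
      rw [hf1] at h2
      have h0 : α ∈ fib (f α) := Finset.mem_filter.2 ⟨hα, rfl⟩
      have hne1 : y • α ≠ α := fun e => hne (by rw [e, e])
      have hsub : ({α, y • α, y • (y • α)} : Finset Ω) ⊆ fib (f α) := by
        simp only [Finset.insert_subset_iff, Finset.singleton_subset_iff]
        exact ⟨h0, h1, h2⟩
      have h3 := Finset.card_le_card hsub
      rw [Finset.card_eq_three.2 ⟨α, y • α, y • (y • α), hne1.symm, fun e => hne e.symm,
        fun e => hne1 (smul_left_cancel y e.symm), rfl⟩, hfib] at h3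
      have := Nat.mul_le_mul_left n h3
      omega
  · refine le_trans (hbound _ 1 (fun a => ?_) fun α hα h => ?_) (by rw [one_mul])
    · rw [hfib a]
      by_contra h2
      have := Nat.mul_le_mul_left n (show 2 ≤ (fib a₀).card by omega)
      omega
    · have h1 := hstep α hα h
      have h0 : α ∈ fib (f α) := Finset.mem_filter.2 ⟨hα, rfl⟩
      refine Finset.card_le_one.1 ?_ _ h1 _ h0
      rw [hfib]
      by_contra h2
      have := Nat.mul_le_mul_left n (show 2 ≤ (fib a₀).card by omega)
      omega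

end Cfsg.Agent.ProdAction
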