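import Cfsg.Agent.ProdAction.Basic
import Cfsg.Agent.S3620

/-!
An overgroup of the even part of `S_m ≀ S_k` containing a non-trivial element which preserves the
lines of one coordinate and fixes one of them pointwise contains the alternating group.

An element of this kind with smallest set of moved lines moves a single line: two minimal sets
meeting in a line coincide (commutators), so a minimal set is a block for the coordinatewise action,
which makes it free in every coordinate where it is not constant, and a coordinate exchange fixing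
one of its lines excludes that.  A single line is a Jordan set.
-/

set_option autoImplicit false
set_option linter.style.haveILetI false

namespace Cfsg.Agent.ProdAction

open Equiv Equiv.Perm

variable {m k : ℕ}

/-- The permutations preserving every line in coordinate `j`. -/
def lineStab (j : Fin k) : Subgroup (Perm (Pt m k)) where
  carrier := {g | ∀ f i, i ≠ j → g f i = f i}
  one_mem' := fun _ _ _ => rfl
  mul_mem' {a b} ha hb := fun f i hi => by rw [Perm.mul_apply, ha _ i hi, hb f i hi]
  inv_mem' {a} ha := fun f i hi => by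
    have h := ha (a⁻¹ f) i hi
    simpa [Perm.inv_def] using h.symm

theorem update_apply_eq {j : Fin k} {g : Perm (Pt m k)} (hg : g ∈ lineStab j) (f : Pt m k) :
    Function.update f j (g f j) = g f := by
  funext i
  rcases eq_or_ne i j with rfl | h
  · simp
  · rw [Function.update_of_ne h, hg f i h]

theorem apply_update {j : Fin k} {g : Perm (Pt m k)} (hg : g ∈ lineStab j) (l : Pt m k) (c : Fin m) :
    g (Function.update l j c) = Function.update l j (g (Function.update l j c) j) := by
  conv_lhs => rw [← update_apply_eq hg (Function.update l j c)]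
  rw [Function.update_idem]

/-- The permutation induced on the line through `l`. -/
def res (j : Fin k) (l : Pt m k) : ↥(lineStab (m := m) j) →* Perm (Fin m) where
  toFun g :=
    { toFun := fun c => (g : Perm (Pt m k)) (Function.update l j c) j
      invFun := fun c => ((g⁻¹ : ↥(lineStab (m := m) j)) : Perm (Pt m k)) (Function.update l j c) j
      left_inv := fun c => by
        show ((g⁻¹ : ↥(lineStab (m := m) j)) : Perm (Pt m k))
          (Function.update l j ((g : Perm (Pt m k)) (Function.update l j c) j)) j = c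
        rw [← apply_update g.2 l c]
        simp
      right_inv := fun c => by
        show (g : Perm (Pt m k)) (Function.update l j
          (((g⁻¹ : ↥(lineStab (m := m) j)) : Perm (Pt m k)) (Function.update l j c) j)) j = c
        rw [← apply_update (g⁻¹).2 l c]
        simp }
  map_one' := Equiv.ext fun c => by simp
  map_mul' a b := Equiv.ext fun c => by
    show (a : Perm (Pt m k)) ((b : Perm (Pt m k)) (Function.update l j c)) j =
      (a : Perm (Pt m k)) (Function.update l j ((b : Perm (Pt m k)) (Function.update l j c) j)) j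
    rw [← apply_update b.2 l c]

theorem res_apply (j : Fin k) (l : Pt m k) (g : ↥(lineStab (m := m) j)) (c : Fin m) :
    res j l g c = (g : Perm (Pt m k)) (Function.update l j c) j := rfl

theorem res_update (j : Fin k) (l : Pt m k) (c : Fin m) (g : ↥(lineStab (m := m) j)) :
    res j (Function.update l j c) g = res j l g := Equiv.ext fun d => by
  simp [res_apply]

/-- The union of the moved lines. -/
def supp (j : Fin k) (g : ↥(lineStab (m := m) j)) : Set (Pt m k) := {l | res j l g ≠ 1}

theorem apply_of_notMem_supp {j : Fin k} {g : ↥(lineStab (m := m) j)} {f : Pt m k}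
    (h : f ∉ supp j g) : (g : Perm (Pt m k)) f = f := by
  have h' : res j f g = 1 := not_not.1 h
  rw [← update_apply_eq g.2 f]
  have := congrArg (fun p : Perm (Fin m) => p (f j)) h'
  rw [res_apply, Function.update_eq_self] at this
  rw [this, Perm.one_apply, Function.update_eq_self]

theorem supp_eq_empty_iff {j : Fin k} {g : ↥(lineStab (m := m) j)} : supp j g = ∅ ↔ g = 1 := by
  refine ⟨fun h => Subtype.ext (Equiv.ext fun f => apply_of_notMem_supp (by simp [h])), ?_⟩
  rintro rfl
  simp [supp]

theorem act_update {π : Perm (Fin k)} (τ : Fin k → Perm (Fin m)) {j : Fin k} (hπ : π j = j)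
    (l : Pt m k) (c : Fin m) :
    act π τ (Function.update l j c) = Function.update (act π τ l) j (τ j c) := by
  have hj : π.symm j = j := by rw [Equiv.symm_apply_eq, hπ]
  funext i
  rcases eq_or_ne i j with rfl | h
  · simp [hj]
  · have : π.symm i ≠ j := fun e => h (by rw [← hπ, ← e, Equiv.apply_symm_apply])
    simp [Function.update_of_ne h, Function.update_of_ne this]

theorem act_conj_lineStab {π : Perm (Fin k)} (τ : Fin k → Perm (Fin m)) {j : Fin k} (hπ : π j = j)
    {g : Perm (Pt m k)} (hg : g ∈ lineStab j) : act π τ * g * (act π τ)⁻¹ ∈ lineStab j := by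
  intro f i hi
  obtain ⟨f, rfl⟩ := (act π τ).surjective f
  have : π.symm i ≠ j := fun e => hi (by rw [← hπ, ← e, Equiv.apply_symm_apply])
  simp only [Perm.mul_apply, Perm.inv_def, Equiv.symm_apply_apply]
  rw [act_apply, hg f _ this, act_apply]

theorem res_conj {π : Perm (Fin k)} (τ : Fin k → Perm (Fin m)) {j : Fin k} (hπ : π j = j)
    (g : ↥(lineStab (m := m) j)) (l : Pt m k) :
    res j (act π τ l) ⟨_, act_conj_lineStab τ hπ g.2⟩ = τ j * res j l g * (τ j)⁻¹ := by
  refine Equiv.ext fun c => ?_
  obtain ⟨d, rfl⟩ := (τ j).surjective c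
  have hj : π.symm j = j := by rw [Equiv.symm_apply_eq, hπ]
  simp only [res_apply, Perm.mul_apply, Perm.inv_def, Equiv.symm_apply_apply, ← act_update τ hπ]
  rw [act_apply, hj]

theorem supp_conj {π : Perm (Fin k)} (τ : Fin k → Perm (Fin m)) {j : Fin k} (hπ : π j = j)
    (g : ↥(lineStab (m := m) j)) :
    supp j ⟨_, act_conj_lineStab τ hπ g.2⟩ = act π τ '' supp j g := by
  ext f
  obtain ⟨f, rfl⟩ := (act π τ).surjective f
  rw [(act π τ).injective.mem_set_image]
  show res j (act π τ f) _ ≠ 1 ↔ res j f g ≠ 1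
  rw [res_conj τ hπ g f, Ne, Ne, mul_inv_eq_one, mul_eq_left]

theorem exists_avoid (hm : 4 ≤ m) (a b c : Fin m) : ∃ x, x ≠ a ∧ x ≠ b ∧ x ≠ c := by
  have h : ({a, b, c} : Finset (Fin m)).card < (Finset.univ : Finset (Fin m)).card :=
    Finset.card_le_three.trans_lt (by simp; omega)
  obtain ⟨x, -, hx⟩ := Finset.exists_mem_notMem_of_card_lt_card h
  simp only [Finset.mem_insert, Finset.mem_singleton, not_or] at hx
  exact ⟨x, hx⟩

/-- A permutation centralising the alternating group is trivial. -/
theorem eq_one_of_commute_alt (hm : 5 ≤ m) {x : Perm (Fin m)}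
    (h : ∀ t ∈ alternatingGroup (Fin m), Commute t x) : x = 1 := by
  refine Equiv.ext fun a => ?_
  by_contra ha
  rw [Perm.one_apply] at ha
  obtain ⟨b, hb1, hb2, -⟩ := exists_avoid (by omega) a (x a) a
  obtain ⟨c, hc1, hc2, hc3⟩ := exists_avoid (by omega) a (x a) b
  have ht : swap a c * swap a b ∈ alternatingGroup (Fin m) := by
    rw [Perm.mem_alternatingGroup, map_mul, sign_swap hc1.symm, sign_swap hb1.symm]; rfl
  have e := Equiv.ext_iff.1 (h _ ht).eq a
  simp only [Perm.mul_apply, swap_apply_left, swap_apply_of_ne_of_ne hb1 hc3.symm] at e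
  rw [swap_apply_of_ne_of_ne ha hb2.symm, swap_apply_of_ne_of_ne ha hc2.symm] at e
  exact hb1 (x.injective e).symm

/-- A non-trivial subgroup normalised by the alternating group contains it. -/
theorem alt_le_of_normalised (hm : 5 ≤ m) {X : Subgroup (Perm (Fin m))}
    (hX : ∀ t ∈ alternatingGroup (Fin m), ∀ x ∈ X, t * x * t⁻¹ ∈ X)
    {x : Perm (Fin m)} (hx : x ∈ X) (hx1 : x ≠ 1) : alternatingGroup (Fin m) ≤ X := by
  haveI : IsSimpleGroup (alternatingGroup (Fin m)) :=
    alternatingGroup.isSimpleGroup (by simpa using hm)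
  have hn : (X.subgroupOf (alternatingGroup (Fin m))).Normal := ⟨fun a ha t => by
    rw [Subgroup.mem_subgroupOf] at ha ⊢
    exact hX t t.2 _ ha⟩
  rcases hn.eq_bot_or_eq_top with h | h
  · refine absurd (eq_one_of_commute_alt hm fun t ht => ?_) hx1
    have hmem : (⟨t * x * t⁻¹ * x⁻¹, by
        rw [Perm.mem_alternatingGroup]
        simp [Perm.mem_alternatingGroup.1 ht, mul_comm]⟩ : alternatingGroup (Fin m))
        ∈ X.subgroupOf (alternatingGroup (Fin m)) :=
      Subgroup.mem_subgroupOf.2 (X.mul_mem (hX t ht x hx) (X.inv_mem hx))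
    rw [h, Subgroup.mem_bot] at hmem
    have := congrArg Subtype.val hmem
    exact mul_inv_eq_iff_eq_mul.1 (mul_inv_eq_one.1 this)
  · intro t ht
    exact Subgroup.mem_subgroupOf.1 (h ▸ Subgroup.mem_top (⟨t, ht⟩ : alternatingGroup (Fin m)))

/-- No non-trivial permutation commutes with all alternating conjugates of another one. -/
theorem exists_conj_not_commute (hm : 5 ≤ m) {p q : Perm (Fin m)} (hp : p ≠ 1) (hq : q ≠ 1) :
    ∃ t ∈ alternatingGroup (Fin m), ¬ Commute p (t * q * t⁻¹) := by
  by_contra! hcon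
  let X : Subgroup (Perm (Fin m)) :=
    { carrier := {x | ∀ t ∈ alternatingGroup (Fin m), Commute x (t * q * t⁻¹)}
      one_mem' := fun t _ => Commute.one_left _
      mul_mem' := fun ha hb t ht => (ha t ht).mul_left (hb t ht)
      inv_mem' := fun ha t ht => (ha t ht).inv_left }
  have hX : ∀ s ∈ alternatingGroup (Fin m), ∀ x ∈ X, s * x * s⁻¹ ∈ X := by
    intro s hs x hx t ht
    have h := (Commute.conj_iff (h := s)).2 (hx (s⁻¹ * t) (mul_mem (inv_mem hs) ht))
    rwa [show s * (s⁻¹ * t * q * (s⁻¹ * t)⁻¹) * s⁻¹ = t * q * t⁻¹ by group] at h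
  refine hq (eq_one_of_commute_alt hm fun s hs => ?_)
  simpa using (alt_le_of_normalised hm hX (show p ∈ X from hcon) hp hs) 1 (one_mem _)

/-- A coordinate map applied on the single line through `l`. -/
noncomputable def lineMap (j : Fin k) (l : Pt m k) : Perm (Fin m) →* Perm (Pt m k) :=
  haveI : DecidablePred fun f : Pt m k => ∀ i, i ≠ j → f i = l i := Classical.decPred _
  { toFun := fun q =>
      { toFun := fun f => if ∀ i, i ≠ j → f i = l i then Function.update f j (q (f j)) else f
        invFun := fun f => if ∀ i, i ≠ j → f i = l i then Function.update f j (q.symm (f j)) else f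
        left_inv := fun f => by
          by_cases h : ∀ i, i ≠ j → f i = l i
          · have h' : ∀ i, i ≠ j → Function.update f j (q (f j)) i = l i := fun i hi => by
              rw [Function.update_of_ne hi, h i hi]
            simp [if_pos h, if_pos h']
          · simp [if_neg h]
        right_inv := fun f => by
          by_cases h : ∀ i, i ≠ j → f i = l i
          · have h' : ∀ i, i ≠ j → Function.update f j (q.symm (f j)) i = l i := fun i hi => by
              rw [Function.update_of_ne hi, h i hi]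
            simp [if_pos h, if_pos h']
          · simp [if_neg h] }
    map_one' := Equiv.ext fun f => by simp
    map_mul' := fun a b => Equiv.ext fun f => by
      by_cases h : ∀ i, i ≠ j → f i = l i
      · have h' : ∀ i, i ≠ j → Function.update f j (b (f j)) i = l i := fun i hi => by
          rw [Function.update_of_ne hi, h i hi]
        simp [if_pos h, if_pos h']
      · simp [if_neg h] }

theorem lineMap_apply_on {j : Fin k} {l f : Pt m k} (h : ∀ i, i ≠ j → f i = l i)
    (q : Perm (Fin m)) : lineMap j l q f = Function.update f j (q (f j)) := by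
  classical
  simp [lineMap, if_pos h]

theorem lineMap_apply_off {j : Fin k} {l f : Pt m k} (h : ¬ ∀ i, i ≠ j → f i = l i)
    (q : Perm (Fin m)) : lineMap j l q f = f := by
  classical
  simp [lineMap, if_neg h]

theorem coord_conj_lineMap (j : Fin k) (l : Pt m k) (t q : Perm (Fin m)) :
    coord j t * lineMap j l q * (coord j t)⁻¹ = lineMap j l (t * q * t⁻¹) := by
  rw [mul_inv_eq_iff_eq_mul]
  refine Equiv.ext fun f => ?_
  simp only [Perm.mul_apply]
  by_cases h : ∀ i, i ≠ j → f i = l i
  · have h' : ∀ i, i ≠ j → coord j t f i = l i := fun i hi => by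
      rw [coord_apply, Function.update_of_ne hi, h i hi]
    rw [lineMap_apply_on h, lineMap_apply_on h', coord_apply, coord_apply]
    simp
  · have h' : ¬ ∀ i, i ≠ j → coord j t f i = l i := fun e => h fun i hi => by
      simpa [coord_apply, Function.update_of_ne hi] using e i hi
    rw [lineMap_apply_off h, lineMap_apply_off h']

theorem alt_mem_coord {G : Subgroup (Perm (Pt m k))} (hW : Wev m k ≤ G) (i : Fin k)
    {t : Perm (Fin m)} (ht : t ∈ alternatingGroup (Fin m)) : coord i t ∈ G :=
  hW (coord_mem_Wev_of_sign i (Perm.mem_alternatingGroup.1 ht))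

/-- A line-preserving element fixing one line and its shortest relative. -/
theorem exists_single_line (hm : 5 ≤ m) {G : Subgroup (Perm (Pt m k))} (hW : Wev m k ≤ G)
    (j : Fin k) {g₀ : ↥(lineStab (m := m) j)} (hg₀ : (g₀ : Perm (Pt m k)) ∈ G) (h1 : g₀ ≠ 1)
    (hfix : supp j g₀ ≠ Set.univ) :
    ∃ g : ↥(lineStab (m := m) j), (g : Perm (Pt m k)) ∈ G ∧ g ≠ 1 ∧
      ∀ a ∈ supp j g, ∀ b ∈ supp j g, ∀ i, i ≠ j → a i = b i := by
  classical
  haveI : Finite (Perm (Pt m k)) := inferInstance
  let P : ℕ → Prop := fun n => ∃ g : ↥(lineStab (m := m) j),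
    (g : Perm (Pt m k)) ∈ G ∧ g ≠ 1 ∧ (supp j g).ncard = n
  have hP : ∃ n, P n := ⟨_, g₀, hg₀, h1, rfl⟩
  obtain ⟨g, hg, hg1, hn⟩ := Nat.find_spec hP
  have hmin : ∀ h : ↥(lineStab (m := m) j), (h : Perm (Pt m k)) ∈ G → h ≠ 1 →
      (supp j g).ncard ≤ (supp j h).ncard := fun h hh hh1 => hn ▸ Nat.find_min' hP ⟨h, hh, hh1, rfl⟩
  refine ⟨g, hg, hg1, ?_⟩
  set S := supp j g with hS
  -- two images of a smallest set meeting in a line coincide
  have block : ∀ {π : Perm (Fin k)} (τ : Fin k → Perm (Fin m)), π j = j → act π τ ∈ G →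
      ∀ l ∈ S, act π τ l ∈ S → ∀ f ∈ S, act π τ f ∈ S := by
    intro π τ hπ hσ l hl hσl f hf
    set h : ↥(lineStab (m := m) j) := ⟨_, act_conj_lineStab τ hπ g.2⟩ with hh
    have hsupp : supp j h = act π τ '' S := supp_conj τ hπ g
    have hres : res j (act π τ l) h ≠ 1 := by
      show act π τ l ∈ supp j h
      rw [hsupp]; exact Set.mem_image_of_mem _ hl
    obtain ⟨a, ha, hnc⟩ := exists_conj_not_commute hm hσl hres
    set h' : ↥(lineStab (m := m) j) :=
      ⟨_, act_conj_lineStab (π := 1) (Pi.mulSingle j a) rfl h.2⟩ with hh'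
    have hh'G : (h' : Perm (Pt m k)) ∈ G :=
      G.mul_mem (G.mul_mem (alt_mem_coord hW j ha) (G.mul_mem (G.mul_mem hσ hg) (G.inv_mem hσ)))
        (G.inv_mem (alt_mem_coord hW j ha))
    have hres' : ∀ x, res j x h' = a * res j x h * a⁻¹ := by
      intro x
      have e := res_conj (π := 1) (Pi.mulSingle j a) rfl h x
      rw [show act 1 (Pi.mulSingle j a) x = Function.update x j (a (x j)) from coord_apply j a x,
        res_update] at e
      simpa using e
    set c := g * h' * g⁻¹ * h'⁻¹ with hc
    have hcres : ∀ x, res j x c =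
        res j x g * (a * res j x h * a⁻¹) * (res j x g)⁻¹ * (a * res j x h * a⁻¹)⁻¹ := by
      intro x; rw [hc, map_mul, map_mul, map_mul, map_inv, map_inv, hres']
    have hc1 : c ≠ 1 := by
      intro e
      have h0 := hcres (act π τ l)
      rw [e, map_one] at h0
      exact hnc (mul_inv_eq_iff_eq_mul.1 (mul_inv_eq_one.1 h0.symm))
    have hcsub : supp j c ⊆ S ∩ supp j h := fun x hx => by
      refine ⟨fun e => hx ?_, fun e => hx ?_⟩ <;> rw [hcres, e] <;> group
    have hcG : (c : Perm (Pt m k)) ∈ G :=
      G.mul_mem (G.mul_mem (G.mul_mem hg hh'G) (G.inv_mem hg)) (G.inv_mem hh'G)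
    have he1 : supp j c = S :=
      Set.eq_of_subset_of_ncard_le (fun x hx => (hcsub hx).1) (hmin c hcG hc1) (Set.toFinite _)
    have he2 : S = supp j h := Set.eq_of_subset_of_ncard_le (fun x hx => (hcsub (he1.symm ▸ hx)).2)
      (by rw [hsupp, Set.ncard_image_of_injective _ (act π τ).injective]) (Set.toFinite _)
    rw [he2, hsupp]
    exact Set.mem_image_of_mem _ hf
  have moves : ∀ {i : Fin k}, i ≠ j → ∀ t ∈ alternatingGroup (Fin m),
      ∀ f ∈ S, t (f i) = f i → ∀ f' ∈ S, Function.update f' i (t (f' i)) ∈ S := by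
    intro i hi t ht f hf htf f' hf'
    have h := block (π := 1) (Pi.mulSingle i t) rfl (alt_mem_coord hW i ht) f hf
      (by show coord i t f ∈ S; rw [(coord_fixed i t f).2 htf]; exact hf) f' hf'
    rwa [show act 1 (Pi.mulSingle i t) f' = coord i t f' from rfl, coord_apply] at h
  have cyc : ∀ u v w : Fin m, w ≠ u → w ≠ v → u ≠ v →
      ∃ t ∈ alternatingGroup (Fin m), t u = v ∧ t w = w := by
    intro u v w hwu hwv huv
    obtain ⟨x, hxu, hxv, hxw⟩ := exists_avoid (by omega) u v w
    refine ⟨swap u x * swap u v, ?_, ?_, ?_⟩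
    · rw [Perm.mem_alternatingGroup, map_mul, sign_swap hxu.symm, sign_swap huv]; rfl
    · rw [Perm.mul_apply, swap_apply_left, swap_apply_of_ne_of_ne huv.symm hxv.symm]
    · rw [Perm.mul_apply, swap_apply_of_ne_of_ne hwu hwv, swap_apply_of_ne_of_ne hwu hxw.symm]
  have upd : ∀ {i : Fin k}, i ≠ j → ∀ f ∈ S, ∀ f' ∈ S, ∀ c, f i ≠ f' i → f i ≠ c →
      Function.update f' i c ∈ S := by
    intro i hi f hf f' hf' c hne hc
    rcases eq_or_ne (f' i) c with rfl | hne'
    · rwa [Function.update_eq_self]
    · obtain ⟨t, ht, htu, htw⟩ := cyc (f' i) c (f i) hne hc hne'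
      have h := moves hi t ht f hf htw f' hf'
      rwa [htu] at h
  have free : ∀ {i : Fin k}, i ≠ j → ∀ a ∈ S, ∀ b ∈ S, a i ≠ b i → ∀ f ∈ S, ∀ c,
      Function.update f i c ∈ S := by
    intro i hi a ha b hb hab f hf c
    have all : ∀ v, ∃ f' ∈ S, f' i = v := by
      intro v
      rcases eq_or_ne (a i) v with rfl | hv
      · exact ⟨a, ha, rfl⟩
      · exact ⟨_, upd hi a ha b hb v hab hv, by simp⟩
    obtain ⟨w, hwf, hwc, -⟩ := exists_avoid (by omega) (f i) c c
    obtain ⟨f', hf', rfl⟩ := all w
    exact upd hi f' hf' f hf c hwf hwc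
  intro a ha b hb i hi
  by_contra hab
  -- a coordinate in which `S` is constant
  obtain ⟨i₀, hi₀, hconst⟩ : ∃ i₀, i₀ ≠ j ∧ ∀ f ∈ S, ∀ f' ∈ S, f i₀ = f' i₀ := by
    by_contra! hall
    have hfree : ∀ (i : Fin k) (f : Pt m k), f ∈ S → ∀ c, Function.update f i c ∈ S := by
      intro i f hf c
      rcases eq_or_ne i j with rfl | hij
      · show res i (Function.update f i c) g ≠ 1
        rw [res_update]; exact hf
      · obtain ⟨x, hx, y, hy, hxy⟩ := hall i hij
        exact free hij x hx y hy hxy f hf c
    have huniv : S = Set.univ := by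
      refine Set.eq_univ_of_forall fun x => ?_
      suffices h : ∀ s : Finset (Fin k), (fun i => if i ∈ s then x i else a i) ∈ S by
        simpa using h Finset.univ
      intro s
      induction s using Finset.induction with
      | empty => simpa using ha
      | insert d s hd ih =>
        convert hfree d _ ih (x d) using 1
        funext i
        rcases eq_or_ne i d with rfl | h <;> simp [*]
    have := hmin g₀ hg₀ h1
    rw [huniv] at this
    exact hfix (Set.eq_of_subset_of_ncard_le (Set.subset_univ _) this (Set.toFinite _))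
  have hii : i ≠ i₀ := fun e => hab (e ▸ hconst a ha b hb)
  -- exchange it with `i`, fixing a line of `S`
  set v := a i₀ with hv
  obtain ⟨u, hu⟩ : ∃ u, u ≠ v := Fintype.exists_ne_of_one_lt_card (by simp; omega) v
  obtain ⟨u', hu'v, hu'u, -⟩ := exists_avoid (by omega) v u u
  set π : Perm (Fin k) := swap i i₀ with hπd
  have hπj : π j = j := swap_apply_of_ne_of_ne hi.symm hi₀.symm
  obtain ⟨τ, hτG, hτ1, hτ⟩ : ∃ τ : Fin k → Perm (Fin m), act π τ ∈ G ∧
      (∀ d, d ≠ i₀ → τ d = 1) ∧ τ i₀ v = v := by
    by_cases hev : Even m ∨ sign (act π (1 : Fin k → Perm (Fin m))) = 1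
    · exact ⟨1, hW (mem_Wev.2 ⟨act_mem_W _ _, hev⟩), fun d _ => rfl, rfl⟩
    · rw [not_or] at hev
      refine ⟨Pi.mulSingle i₀ (swap u u'), ?_, fun d hd => Pi.mulSingle_eq_of_ne hd _, ?_⟩
      · refine hW (mem_Wev.2 ⟨act_mem_W _ _, Or.inr ?_⟩)
        have e : act π (Pi.mulSingle i₀ (swap u u')) = coord i₀ (swap u u') * act π 1 := by
          show _ = act 1 _ * act π 1
          rw [act_mul, one_mul]
          congr 1
        rw [e, map_mul, sign_coord_of_odd (Nat.not_even_iff_odd.1 hev.1), sign_swap hu'u.symm,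
          (Int.units_eq_one_or _).resolve_left hev.2]
        rfl
      · rw [Pi.mulSingle_eq_same, swap_apply_of_ne_of_ne hu.symm hu'v.symm]
  set l := Function.update a i v with hl
  have hlS : l ∈ S := free hi a ha b hb hab a ha v
  set f := Function.update a i u with hf
  have hfS : f ∈ S := free hi a ha b hb hab a ha u
  have hs1 : π.symm i₀ = i := by rw [hπd, symm_swap, swap_apply_right]
  have hσl : act π τ l = l := by
    funext d
    rw [act_apply]
    rcases eq_or_ne d i₀ with rfl | hd
    · rw [hs1, hl, Function.update_self, hτ, Function.update_of_ne hii.symm]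
    · rw [hτ1 d hd, Perm.one_apply]
      rcases eq_or_ne d i with rfl | hd'
      · rw [hπd, symm_swap, swap_apply_left, hl, Function.update_self,
          Function.update_of_ne hii.symm]
      · rw [hπd, symm_swap, swap_apply_of_ne_of_ne hd' hd]
  have h := hconst _ (block τ hπj hτG l hlS (hσl.symm ▸ hlS) f hfS) a ha
  rw [act_apply, hs1, hf, Function.update_self] at h
  exact hu ((τ i₀).injective (h.trans hτ.symm))

/-- A non-trivial element preserving the lines of one coordinate and fixing one of them pointwise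
forces the alternating group. -/
theorem alt_of_fibre {m k : ℕ} (hm : 5 ≤ m) (hk : 2 ≤ k) {G : Subgroup (Equiv.Perm (Pt m k))}
    (hW : Wev m k ≤ G) (h2 : MulAction.IsMultiplyPretransitive G (Pt m k) 2)
    {g : Equiv.Perm (Pt m k)} (hg : g ∈ G) (hg1 : g ≠ 1) (j : Fin k)
    (hline : ∀ f i, i ≠ j → g f i = f i)
    (hfix : ∃ f0 : Pt m k, ∀ f : Pt m k, (∀ i, i ≠ j → f i = f0 i) → g f = f) :
    alternatingGroup (Pt m k) ≤ G := by
  classical
  obtain ⟨f0, hf0⟩ := hfix
  have hnu : supp j (⟨g, hline⟩ : lineStab (m := m) j) ≠ Set.univ := fun e => by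
    refine (e.symm ▸ Set.mem_univ f0 : f0 ∈ supp j (⟨g, hline⟩ : lineStab (m := m) j)) ?_
    refine Equiv.ext fun c => ?_
    rw [res_apply, Perm.one_apply]
    show g (Function.update f0 j c) j = c
    rw [hf0 _ fun i hi => Function.update_of_ne hi _ _, Function.update_self]
  obtain ⟨g', hg', hg'1, hone⟩ := exists_single_line hm hW j (g₀ := ⟨g, hline⟩) hg
    (fun e => hg1 (congrArg Subtype.val e)) hnu
  obtain ⟨l, hl⟩ := Set.nonempty_iff_ne_empty.2 fun e => hg'1 (supp_eq_empty_iff.1 e)
  have hgline : (g' : Perm (Pt m k)) = lineMap j l (res j l g') := by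
    refine Equiv.ext fun f => ?_
    by_cases h : ∀ i, i ≠ j → f i = l i
    · have e : Function.update l j (f j) = f := funext fun i => by
        rcases eq_or_ne i j with rfl | hi
        · simp
        · rw [Function.update_of_ne hi, h i hi]
      rw [lineMap_apply_on h, res_apply, e, update_apply_eq g'.2]
    · rw [lineMap_apply_off h, apply_of_notMem_supp fun hf => h fun i hi => hone f hf l hl i hi]
  have hX : alternatingGroup (Fin m) ≤ G.comap (lineMap j l) := by
    refine alt_le_of_normalised hm (fun t ht x hx => ?_) (x := res j l g') ?_ hl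
    · rw [Subgroup.mem_comap] at hx ⊢
      rw [← coord_conj_lineMap]
      exact G.mul_mem (G.mul_mem (alt_mem_coord hW j ht) hx) (G.inv_mem (alt_mem_coord hW j ht))
    · rw [Subgroup.mem_comap, ← hgline]; exact hg'
  set Γ : Set (Pt m k) := Set.range fun c : Fin m => Function.update l j c with hΓ
  have hΓc : Γ.ncard = m := by
    rw [hΓ, Set.ncard_range_of_injective (Function.update_injective l j), Nat.card_fin]
  have hmem : ∀ f, f ∈ Γ ↔ ∀ i, i ≠ j → f i = l i := fun f => by
    refine ⟨?_, fun h => ⟨f j, funext fun i => ?_⟩⟩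
    · rintro ⟨c, rfl⟩ i hi; exact Function.update_of_ne hi _ _
    · rcases eq_or_ne i j with rfl | hi
      · simp
      · simp [Function.update_of_ne hi, h i hi]
  have hqp : ∀ N : Subgroup G, N.Normal → N ≠ ⊥ → MulAction.IsPretransitive ↥N (Pt m k) := by
    intro N hN hne
    obtain ⟨n, hn, hn1⟩ := (Subgroup.bot_or_exists_ne_one N).resolve_left hne
    obtain ⟨x, hx⟩ : ∃ x : Pt m k, n • x ≠ x := by
      by_contra! h
      exact hn1 (eq_of_smul_eq_smul (α := Pt m k) fun x => by rw [h, one_smul])
    refine ⟨fun a b => ?_⟩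
    rcases eq_or_ne a b with rfl | hab
    · exact ⟨1, one_smul _ _⟩
    · obtain ⟨σ, hσ1, hσ2⟩ :=
        MulAction.is_two_pretransitive_iff.1 h2 (Ne.symm hx : x ≠ n • x) hab
      refine ⟨⟨σ * n * σ⁻¹, hN.conj_mem n hn σ⟩, ?_⟩
      show (σ * n * σ⁻¹) • a = b
      rw [← hσ1, mul_smul, inv_smul_smul, mul_smul, hσ2]
  have hbig : 2 * Γ.ncard < Fintype.card (Pt m k) := by
    rw [hΓc, Fintype.card_fun, Fintype.card_fin, Fintype.card_fin]
    calc 2 * m < m ^ 2 := by nlinarith
      _ ≤ m ^ k := Nat.pow_le_pow_right (by omega) hk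
  have hJ : MulAction.IsPretransitive ↥(fixingSubgroup G Γᶜ)
      ↥(SubMulAction.ofFixingSubgroup G Γᶜ) := by
    refine ⟨fun ⟨x, hx⟩ ⟨y, hy⟩ => ?_⟩
    obtain ⟨c, rfl⟩ := not_not.1 hx
    obtain ⟨d, rfl⟩ := not_not.1 hy
    obtain ⟨t, ht, htc⟩ : ∃ t ∈ alternatingGroup (Fin m), t c = d := by
      rcases eq_or_ne c d with rfl | hcd
      · exact ⟨1, one_mem _, rfl⟩
      · obtain ⟨e, he1, he2, -⟩ := exists_avoid (by omega) c d d
        refine ⟨swap c d * swap d e, ?_, ?_⟩
        · rw [Perm.mem_alternatingGroup, map_mul, sign_swap hcd, sign_swap he2.symm]; rfl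
        · rw [Perm.mul_apply, swap_apply_of_ne_of_ne hcd he1.symm, swap_apply_left]
    refine ⟨⟨⟨lineMap j l t, hX ht⟩, ?_⟩, Subtype.ext ?_⟩
    · rw [mem_fixingSubgroup_iff]
      intro f hf
      exact lineMap_apply_off (fun h => hf ((hmem f).2 h)) t
    · show lineMap j l t (Function.update l j c) = Function.update l j d
      rw [lineMap_apply_on fun i hi => Function.update_of_ne hi _ _, Function.update_self, htc,
        Function.update_idem]
  intro σ hσ
  obtain ⟨x, hx⟩ := S3620.result hqp Γ (by omega) hbig hJ σ (Perm.mem_alternatingGroup.1 hσ)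
  have : (x : Perm (Pt m k)) = σ := Equiv.ext fun f => by rw [← hx]; rfl
  exact this ▸ x.2

end Cfsg.Agent.ProdAction
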