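import Cfsg.Agent.ProdAction.TwoSylow
import Cfsg.Agent.ProdAction.Mask

/-!
The maximality of `S_m ≀ S_2` in product action for `m = 5, 7, 9`.
-/

set_option autoImplicit false

namespace Cfsg.Agent.ProdAction

open Equiv Equiv.Perm

namespace TwoData

/-- The data for `m = 5`. -/
def five : TwoData 5 where
  p := 3
  hp := Nat.prime_three
  hp2 := by decide
  hm := by decide
  hm5 := le_rfl
  c := 3
  d := 4
  o := 0
  v := Equiv.swap 0 1 * Equiv.swap 1 2
  hcd := by decide
  hfix := by decide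
  hvp := by decide
  hvo := by decide
  gen := by decide

/-- The data for `m = 7`. -/
def seven : TwoData 7 where
  p := 5
  hp := by norm_num
  hp2 := by decide
  hm := by decide
  hm5 := by norm_num
  c := 5
  d := 6
  o := 0
  v := Equiv.swap 0 1 * Equiv.swap 1 2 * Equiv.swap 2 3 * Equiv.swap 3 4
  hcd := by decide
  hfix := by decide
  hvp := by decide
  hvo := by decide
  gen := by decide

/-- The data for `m = 9`. -/
def nine : TwoData 9 where
  p := 7
  hp := by norm_num
  hp2 := by decide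
  hm := by decide
  hm5 := by norm_num
  c := 7
  d := 8
  o := 0
  v := Equiv.swap 0 1 * Equiv.swap 1 2 * Equiv.swap 2 3 * Equiv.swap 3 4 * Equiv.swap 4 5 *
    Equiv.swap 5 6
  hcd := by decide
  hfix := by decide
  hvp := by decide +kernel
  hvo := by decide
  gen := by decide +kernel

theorem kill_seven {G : Subgroup (Perm (Pt 7 2))} (hW : Wev 7 2 ≤ G) (hN : NoFibre G) :
    seven.Kill G :=
  seven.kill_of_mult hN (u := Equiv.swap 1 4 * Equiv.swap 2 3) (r := -1)
    (by decide +kernel) (by decide) (by decide) (by decide)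
    (hW (coord_mem_Wev_of_sign 1 (by decide +kernel)))

theorem kill_nine {G : Subgroup (Perm (Pt 9 2))} (hW : Wev 9 2 ≤ G) (hN : NoFibre G) :
    nine.Kill G :=
  nine.kill_of_mult hN (u := Equiv.swap 1 2 * Equiv.swap 2 4 * (Equiv.swap 3 6 * Equiv.swap 6 5))
    (r := 2) (by decide +kernel) (by decide) (by decide) (by decide)
    (hW (coord_mem_Wev_of_sign 1 (by decide +kernel)))

/-- The commutator used for `m = 5`. -/
def witness (w : Perm (Pt 5 2)) : Perm (Pt 5 2) :=
  w * (coord (0 : Fin 2) (Equiv.swap 2 3 * Equiv.swap 3 4) * w *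
      (coord (0 : Fin 2) (Equiv.swap 2 3 * Equiv.swap 3 4))⁻¹) * w⁻¹ *
    (coord (0 : Fin 2) (Equiv.swap 2 3 * Equiv.swap 3 4) * w *
      (coord (0 : Fin 2) (Equiv.swap 2 3 * Equiv.swap 3 4))⁻¹)⁻¹

/-- The properties of the witness that contradict `NoFibre`. -/
def IsBad (e : Perm (Pt 5 2)) : Prop :=
  (∀ f, e f 1 = f 1) ∧ (∀ f : Pt 5 2, f 1 = 0 → e f = f) ∧ ∃ f, e f ≠ f

instance (e : Perm (Pt 5 2)) : Decidable (IsBad e) := by unfold IsBad; infer_instance

theorem witness_bad : ∀ a ∈ [(1 : ℤ), 2], ∀ b ∈ [(1 : ℤ), 2],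
    IsBad (witness (five.T (-a, a, 0) (-b, b, 0))) := by
  decide +kernel

theorem kill_five {G : Subgroup (Perm (Pt 5 2))} (hW : Wev 5 2 ≤ G) (hN : NoFibre G) :
    five.Kill G := by
  intro A B hT hA1 hB1
  let u : Perm (Fin 5) := Equiv.swap 3 4 * Equiv.swap 1 2
  have hu : u * five.v * u⁻¹ = five.v ^ (-1 : ℤ) := by decide +kernel
  have humem : ∀ j : Fin 2, coord j u ∈ G := fun j =>
    hW (coord_mem_Wev_of_sign j (by decide +kernel))
  have hsel : ∀ X : Tri, ∀ y, five.sel X (u⁻¹ y) = five.sel (X.2.1, X.1, X.2.2) y := by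
    intro X y; fin_cases y <;> rfl
  -- adding the mirror image leaves a one-coordinate translation
  have h1 := mul_mem hT (mul_mem (mul_mem (humem 1) hT) (inv_mem (humem 1)))
  rw [five.conj_one B hu (hsel A), five.T_mul] at h1
  have h0 := mul_mem hT (mul_mem (mul_mem (humem 0) hT) (inv_mem (humem 0)))
  rw [five.conj_zero A hu (hsel B), five.T_mul] at h0
  have hv : ∀ (j : Fin 2) (k : ℤ), coord j (five.v ^ k) ∈ G := fun j k => by
    rw [map_zpow]; exact zpow_mem (hW (coord_mem_Wev_of_sign j five.sign_v)) k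
  have hA2 : (five.p : ℤ) ∣ A.2.2 + A.2.2 - (A.1 + A.2.1) := by
    have h := mul_mem h1 (hv 0 (-(A.1 + A.2.1)))
    rw [five.coord_zero_pow, five.T_mul] at h
    have := five.horiz_eq_zero hN (by simp [Cong]) h (.inl (by simp))
    simpa [Cong, sub_eq_add_neg] using this.2.2
  have hB2 : (five.p : ℤ) ∣ B.2.2 + B.2.2 - (B.1 + B.2.1) := by
    have h := mul_mem h0 (hv 1 (-(B.1 + B.2.1)))
    rw [five.coord_one_pow, five.T_mul] at h
    have := five.vert_eq_zero hN (by simp [Cong]) h (.inl (by simp))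
    simpa [Cong, sub_eq_add_neg] using this.2.2
  simp only [show five.p = 3 from rfl, Nat.cast_ofNat] at hA1 hB1 hA2 hB2
  by_cases hA0 : (3 : ℤ) ∣ A.2.2
  · have hA : five.Cong A 0 := five.cong_zero_iff.2 ⟨hA1, by
      show (3 : ℤ) ∣ _
      omega, hA0⟩
    exact ⟨hA, five.vert_eq_zero hN hA hT (.inl hB1)⟩
  by_cases hB0 : (3 : ℤ) ∣ B.2.2
  · have hB : five.Cong B 0 := five.cong_zero_iff.2 ⟨hB1, by
      show (3 : ℤ) ∣ _
      omega, hB0⟩
    exact ⟨five.horiz_eq_zero hN hB hT (.inl hA1), hB⟩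
  exfalso
  have h := mul_mem hT (mul_mem (hv 0 (-A.2.2)) (hv 1 (-B.2.2)))
  rw [five.coord_zero_pow, five.coord_one_pow, five.T_mul, five.T_mul] at h
  set a := A.2.2 % 3 with ha
  set b := B.2.2 % 3 with hb
  have hw : five.T (-a, a, 0) (-b, b, 0) ∈ G := by
    convert h using 1
    apply five.T_congr <;>
    · simp only [Cong, show five.p = 3 from rfl, Nat.cast_ofNat, Prod.fst_add, Prod.snd_add,
        Prod.fst_zero, Prod.snd_zero]
      refine ⟨?_, ?_, ?_⟩ <;> omega
  obtain ⟨hline, hfix, f, hf⟩ := witness_bad a (by simp; omega) b (by simp; omega)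
  have hh : coord (0 : Fin 2) (Equiv.swap 2 3 * Equiv.swap 3 4 : Perm (Fin 5)) ∈ G :=
    hW (coord_mem_Wev_of_sign 0 (by decide +kernel))
  have hwit : witness (five.T (-a, a, 0) (-b, b, 0)) ∈ G :=
    mul_mem (mul_mem (mul_mem hw (mul_mem (mul_mem hh hw) (inv_mem hh))) (inv_mem hw))
      (inv_mem (mul_mem (mul_mem hh hw) (inv_mem hh)))
  refine hf ?_
  rw [hN _ hwit 0 (fun g i hi => ?_) ⟨fun _ => 0, fun g hg => hfix g (hg 1 (by decide))⟩]
  · rfl
  · obtain rfl : i = 1 := by revert hi; revert i; decide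
    exact hline g

end TwoData

theorem key_of_data {m : ℕ} (D : TwoData m)
    (hK : ∀ G : Subgroup (Perm (Pt m 2)), Wev m 2 ≤ G → NoFibre G → D.Kill G) : Key m 2 := by
  intro G hW
  rcases le_or_two_transitive D.hm5 le_rfl hW with h | h2
  · exact .inl h
  refine .inr (by_contra fun hA => ?_)
  have hN : NoFibre G := fun g hg j hline hfix => by_contra fun hg1 =>
    hA (alt_of_fibre D.hm5 le_rfl hW h2 hg hg1 j hline hfix)
  refine D.not_two_transitive hW (fun a b x y hab hxy => ?_) hA (hK G hW hN)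
  obtain ⟨g, e1, e2⟩ := MulAction.is_two_pretransitive_iff.1 h2 hab hxy
  exact ⟨g, g.2, e1, e2⟩

/-- Maximality in the product action for two coordinates and small odd degree. -/
theorem key_two {m : ℕ} (hm : m = 5 ∨ m = 7 ∨ m = 9) : Key m 2 := by
  rcases hm with rfl | rfl | rfl
  · exact key_of_data TwoData.five fun _ => TwoData.kill_five
  · exact key_of_data TwoData.seven fun _ => TwoData.kill_seven
  · exact key_of_data TwoData.nine fun _ => TwoData.kill_nine

end Cfsg.Agent.ProdAction
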