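import Cfsg.Agent.ProdAction.Core
import Cfsg.Agent.ProdAction.Large
import Cfsg.Agent.ProdAction.Six
import Cfsg.Agent.ProdAction.Two

/-!
Product action wreath products are maximal.
-/

set_option autoImplicit false

namespace Cfsg.Agent.ProdAction

open Equiv Equiv.Perm

theorem good_param5 : Good param5 :=
  ⟨by simp, fun _ => ⟨by decide, isConj_v_of_pow param5
    (@orderOf_eq_prime _ _ _ 2 ⟨Nat.prime_two⟩ (by decide) (by decide))
    (fun i hi x => by
      have h2 : (param5.v * param5.v') ^ 2 = 1 := by decide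
      rcases Nat.mod_two_eq_zero_or_one i with h | h
      · exfalso; apply hi
        rw [← Nat.div_add_mod i 2, h, add_zero, pow_mul, h2, one_pow]
      · rw [← Nat.div_add_mod i 2, h, pow_add, pow_mul, h2, one_pow, one_mul, pow_one]
        revert x; decide)⟩⟩

theorem good_of_e {m : ℕ} (P : Param m) (hm : m = 5 ∨ m = 6 ∨ m = 7 ∨ m = 9) (he : P.e ≠ 2) :
    Good P :=
  ⟨hm, fun h => absurd h he⟩

theorem key_six_two : Key 6 2 := by
  intro G hW
  rcases le_or_two_transitive (by norm_num) le_rfl hW with h | h2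
  · exact .inl h
  refine .inr (alt_of_thirty_six (by simp) h2
    (t := coord 0 (swap 0 1)) (hW (mem_Wev.2 ⟨coord_mem_W _ _, .inl (by decide)⟩)) ?_ ?_)
  · have : Fact (Nat.Prime 2) := ⟨Nat.prime_two⟩
    refine orderOf_eq_prime (by rw [pow_two, ← map_mul, swap_mul_self, map_one]) fun h => ?_
    have := congrFun (Equiv.ext_iff.1 h (fun _ => 0)) 0
    rw [coord_apply] at this
    simp at this
  · rw [card_coord_support, card_support_swap (by decide)]
    norm_num

theorem key_all {m k : ℕ} (hm : 5 ≤ m) (hk : 2 ≤ k) : Key m k := by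
  by_cases hL : 10 ≤ m ∨ m = 8
  · exact key_large hL hk
  have h2 : Key m 2 := by
    rcases (show m = 6 ∨ (m = 5 ∨ m = 7 ∨ m = 9) by omega) with rfl | h
    · exact key_six_two
    · exact key_two h
  have hP : ∃ P : Param m, Good P := by
    rcases (show m = 5 ∨ m = 6 ∨ m = 7 ∨ m = 9 by omega) with rfl | rfl | rfl | rfl
    · exact ⟨param5, good_param5⟩
    · exact ⟨param6, good_of_e _ (by simp) (by decide)⟩
    · exact ⟨param7, good_of_e _ (by simp) (by decide)⟩
    · exact ⟨param9, good_of_e _ (by simp) (by decide)⟩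
  obtain ⟨P, hP⟩ := hP
  induction k, hk using Nat.le_induction with
  | base => exact h2
  | succ n hn ih => exact key_step hm hn P hP ih

theorem isCoatom_inf_alternating {m k : ℕ} (hm : 5 ≤ m) (hk : 2 ≤ k) (h : ¬(k = 2 ∧ m % 4 = 2)) :
    IsCoatom ((W m k).subgroupOf (alternatingGroup (Pt m k))) := by
  obtain ⟨σ, hσ, hσW⟩ := exists_alternating_not_mem_W hm hk
  refine ⟨fun h' => hσW ?_, fun N hN => ?_⟩
  · have : (⟨σ, hσ⟩ : alternatingGroup (Pt m k)) ∈ (W m k).subgroupOf _ := h' ▸ Subgroup.mem_top _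
    exact this
  · have hW : Wev m k ≤ N.map (alternatingGroup (Pt m k)).subtype := by
      intro x hx
      have hxA : x ∈ alternatingGroup (Pt m k) := by
        rcases (mem_Wev.1 hx).2 with he | hs
        · exact W_le_alternating he hk h (Wev_le_W hx)
        · exact mem_alternatingGroup.2 hs
      exact ⟨⟨x, hxA⟩, hN.le (show (⟨x, hxA⟩ : alternatingGroup (Pt m k)) ∈ (W m k).subgroupOf _ from
        Wev_le_W hx), rfl⟩
    rcases key_all hm hk _ hW with h' | h'
    · exact absurd (fun x hx => h' ⟨x, hx, rfl⟩) (not_le_of_gt hN)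
    · refine eq_top_iff.2 fun x _ => ?_
      obtain ⟨y, hy, he⟩ := h' x.2
      exact Subtype.ext he ▸ hy

theorem isCoatom_W {m k : ℕ} (hm : 5 ≤ m) (hk : 2 ≤ k) {σ : Perm (Pt m k)} (hσ : σ ∈ W m k)
    (hodd : sign σ = -1) : IsCoatom (W m k) := by
  obtain ⟨σ', -, hσ'W⟩ := exists_alternating_not_mem_W hm hk
  refine ⟨fun h => hσ'W (h ▸ Subgroup.mem_top _), fun N hN => ?_⟩
  rcases key_all hm hk N (Wev_le_W.trans hN.le) with h | h
  · exact absurd h (not_le_of_gt hN)
  · refine eq_top_iff.2 fun x _ => ?_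
    rcases Int.units_eq_one_or (sign x) with hs | hs
    · exact h (mem_alternatingGroup.2 hs)
    · have : x * σ⁻¹ ∈ alternatingGroup (Pt m k) := mem_alternatingGroup.2 (by
        rw [map_mul, map_inv, hs, hodd, mul_inv_cancel])
      have := N.mul_mem (h this) (hN.le hσ)
      rwa [inv_mul_cancel_right] at this

end Cfsg.Agent.ProdAction
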