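import Cfsg.Agent.ProdAction.Slab

/-!
Elements permuting the coordinate elements of a rigid overgroup lie in the wreath product.
-/

set_option autoImplicit false

namespace Cfsg.Agent.ProdAction

open Equiv Equiv.Perm

variable {m n : ℕ}

theorem Param.fix_iff_of_isConj (P : Param m) (hm : 5 ≤ m) {t : Perm (Fin m)} (ht : IsConj t P.v)
    (ha : t P.a = P.a) (x : Fin m) : t x = x ↔ x = P.a := by
  obtain ⟨c, hc⟩ := isConj_iff.1 ht
  have h : ∀ y, t y = y ↔ c y = P.a := fun y => by
    rw [← P.v_fix hm, ← hc]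
    simp [Perm.inv_def]
  rw [h]
  exact ⟨fun hx => c.injective (hx.trans ((h P.a).1 ha).symm), fun hx => by rw [hx]; exact (h _).1 ha⟩

/-- Conjugators between admissible values elements. -/
theorem Param.exists_conj (P : Param m) (hm : 5 ≤ m) {t : Perm (Fin m)} (ht : IsConj t P.v)
    (ha : t P.a = P.a) :
    ∃ s : Perm (Fin m), (Odd m → sign s = 1) ∧ s P.a = P.a ∧ s * P.v * s⁻¹ = t := by
  obtain ⟨c, hc⟩ := isConj_iff.1 ht
  have hca : c P.a = P.a := by
    have := P.v_fix hm (c P.a)
    rw [← hc] at this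
    simpa [Perm.inv_def, ha] using this
  have hs : c⁻¹ P.a = P.a := by
    rw [Perm.inv_def, Equiv.symm_apply_eq, hca]
  have he : c⁻¹ * P.v * (c⁻¹)⁻¹ = t := by rw [← hc]; group
  by_cases h : Odd m ∧ sign c⁻¹ ≠ 1
  · obtain ⟨d, hd, hda, hdv⟩ := P.odd_cent h.1
    refine ⟨c⁻¹ * d, fun _ => ?_, by rw [Perm.mul_apply, hda, hs], ?_⟩
    · rw [map_mul, (Int.units_eq_one_or _).resolve_left h.2, hd]; simp
    · rw [← he, mul_assoc c⁻¹ d P.v, hdv.eq]; group
  · exact ⟨c⁻¹, fun hm' => by by_contra hs'; exact h ⟨hm', hs'⟩, hs, he⟩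

theorem coord_mem_of (hm : 5 ≤ m) {G : Subgroup (Perm (Pt m (n + 1)))} (hW : Wev m (n + 1) ≤ G)
    (j : Fin (n + 1)) {t : Perm (Fin m)} (ht : Odd m → sign t = 1) : coord j t ∈ G := by
  refine hW (mem_Wev.2 ⟨coord_mem_W j t, ?_⟩)
  rcases Nat.even_or_odd m with h | h
  · exact .inl h
  · exact .inr (by rw [sign_coord, ht h, one_pow])

theorem exists_ne_ne (hn : 2 ≤ n) (i : Fin (n + 1)) : ∃ j : Fin (n + 1), j ≠ 0 ∧ j ≠ i := by
  by_contra hno
  push Not at hno
  have := Finset.card_le_card (s := (Finset.univ : Finset (Fin (n + 1)))) (t := {0, i})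
    fun j _ => by
      rcases eq_or_ne j 0 with rfl | h
      · simp
      · simp [hno j h]
  have h2 : ({0, i} : Finset (Fin (n + 1))).card ≤ 2 := Finset.card_le_two
  simp at this
  omega

/-- The points off the union of the slabs of the coordinates `≠ 0`. -/
def core (P : Param m) (n : ℕ) : Set (Pt m (n + 1)) := {f | ∀ i, i ≠ 0 → f i ≠ P.a}

theorem not_mem_core {P : Param m} {f : Pt m (n + 1)} :
    f ∉ core P n ↔ ∃ i, i ≠ 0 ∧ f i = P.a := by
  simp [core, not_forall]

/-- An element supported off the slabs and commuting with the coordinate elements is trivial. -/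
theorem eq_one_or_alt (hm : 5 ≤ m) (hn : 2 ≤ n) {G : Subgroup (Perm (Pt m (n + 1)))}
    (hW : Wev m (n + 1) ≤ G) (h2 : MulAction.IsMultiplyPretransitive G (Pt m (n + 1)) 2)
    (P : Param m) {z : Perm (Pt m (n + 1))} (hz : z ∈ G) (hoff : ∀ f, f ∉ core P n → z f = f)
    (hv : ∀ l, l ≠ 0 → Commute z (coord l P.v) ∧ Commute z (coord l P.v')) :
    z = 1 ∨ alternatingGroup (Pt m (n + 1)) ≤ G := by
  refine or_iff_not_imp_left.2 fun hz1 => ?_
  have hcomm : ∀ l, l ≠ 0 → ∀ i j : ℕ, Commute z (coord l (P.v ^ i * P.v' ^ j)) := fun l hl i j => by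
    rw [map_mul, map_pow, map_pow]
    exact ((hv l hl).1.pow_right i).mul_right ((hv l hl).2.pow_right j)
  have hpres : ∀ f, f ∈ core P n → z f ∈ core P n := fun f hf => by
    by_contra hn'
    exact hn' (by rwa [z.injective (hoff _ hn')])
  have hinv : ∀ l, l ≠ 0 → ∀ (i j : ℕ) (f : Pt m (n + 1)), ∀ i', i' ≠ l →
      z (Function.update f l ((P.v ^ i * P.v' ^ j) (f l))) i' = z f i' := fun l hl i j f i' hi' => by
    have := congrFun (Equiv.ext_iff.1 (hcomm l hl i j).eq f) i'
    simp only [Perm.mul_apply, coord_apply] at this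
    rw [Perm.mul_apply]
    rw [this, Function.update_of_ne hi']
  by_cases hmove : ∃ l, l ≠ 0 ∧ ∃ f, z f l ≠ f l
  · obtain ⟨l, hl, f, hne⟩ := hmove
    have hf : f ∈ core P n := by by_contra h; exact hne (by rw [hoff f h])
    have hxa : f l ≠ P.a := hf l hl
    have horb : ∃ i j : ℕ, (P.v ^ i * P.v' ^ j) (f l) = z f l := by
      by_contra hno
      push Not at hno
      obtain ⟨i, j, hx, hy⟩ := P.sep _ _ hxa (hpres f hf l hl) fun i j _ _ => hno i j
      have := congrFun (Equiv.ext_iff.1 (hcomm l hl i j).eq f) l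
      simp only [Perm.mul_apply, coord_apply, Function.update_self] at this
      rw [Perm.mul_apply] at hx hy
      rw [hx, Function.update_eq_self] at this
      exact hy this.symm
    obtain ⟨u, hu1, hua, hux, huy, huo⟩ := P.rigid _ _ hxa (Ne.symm hne) horb
    set U := coord l u
    have hU : U ∈ G := hW (coord_mem_Wev_of_sign l hu1)
    have hUline : ∀ g i, i ≠ l → U g i = g i := fun g i hi => by
      simp [U, coord_apply, Function.update_of_ne hi]
    have hUcore : ∀ g, g ∉ core P n → U⁻¹ g ∉ core P n := fun g hg hc => hg fun i hi => by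
      have h := hc i hi
      rw [← Equiv.apply_symm_apply U g]
      show U (U⁻¹ g) i ≠ P.a
      rcases eq_or_ne i l with rfl | hne'
      · simp only [U, coord_apply, Function.update_self]
        exact fun e => h (u.injective (e.trans hua.symm))
      · rwa [hUline _ _ hne']
    refine alt_of_fibre hm (by omega) hW h2 (g := z * U * (U * z)⁻¹)
      (G.mul_mem (G.mul_mem hz hU) (G.inv_mem (G.mul_mem hU hz))) (fun h1 => ?_) l (fun q i hi => ?_)
      ⟨fun _ => P.a, fun q hq => ?_⟩
    · have h := congrFun (Equiv.ext_iff.1 (mul_inv_eq_one.1 h1) f) l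
      simp [U, coord_apply, hux] at h
      exact huy h.symm
    · obtain ⟨g, rfl⟩ := (U * z).surjective q
      rw [Perm.mul_apply (z * U), Perm.inv_def, Equiv.symm_apply_apply, Perm.mul_apply,
        Perm.mul_apply, hUline _ _ hi]
      obtain ⟨a, b, hab⟩ := huo (g l)
      show z (coord l u g) i = _
      rw [coord_apply, ← hab]
      exact hinv l hl a b g i hi
    · have hq' : q ∉ core P n := by
        obtain ⟨i, hi0, hil⟩ := exists_ne_ne hn l
        exact not_mem_core.2 ⟨i, hi0, hq i hil⟩
      have h1 : z (U⁻¹ q) = U⁻¹ q := hoff _ (hUcore q hq')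
      have h2' : (U * z) (U⁻¹ q) = q := by rw [Perm.mul_apply, h1]; simp
      conv_lhs => rw [← h2']
      rw [Perm.mul_apply (z * U), Perm.inv_def, Equiv.symm_apply_apply, Perm.mul_apply]
      simpa using hoff q hq'
  · push Not at hmove
    refine alt_of_fibre hm (by omega) hW h2 hz hz1 0 (fun f i hi => hmove i hi f)
      ⟨fun _ => P.a, fun q hq => hoff q ?_⟩
    obtain ⟨i, hi0, -⟩ := exists_ne_ne hn 0
    exact not_mem_core.2 ⟨i, hi0, hq i hi0⟩

/-- A product element agreeing with the identity off the core is trivial. -/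
theorem eq_one_of_off_core (hm : 5 ≤ m) (hn : 2 ≤ n) (P : Param m) {w : Perm (Pt m (n + 1))}
    (hw : w ∈ W m (n + 1)) (h : ∀ f, f ∉ core P n → w f = f) : w = 1 := by
  obtain ⟨π, τ, rfl⟩ := mem_W_iff.1 hw
  have hm2 : 2 ≤ m := by omega
  have hπ : π = 1 := by
    refine Equiv.ext fun x => ?_
    by_contra hne
    set i := π x
    have hp : π.symm i = x := π.symm_apply_apply x
    have hxi : x ≠ i := fun e => hne (by simpa [i] using e.symm)
    obtain ⟨l, hl0, hlx⟩ := exists_ne_ne hn x
    rcases eq_or_ne l i with rfl | hli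
    · have h0 : ∀ y, τ (π x) y = P.a := fun y => by
        have := congrFun (h (Function.update (fun _ => P.a) x y)
          (not_mem_core.2 ⟨π x, hl0, Function.update_of_ne hxi.symm _ _⟩)) (π x)
        rw [act_apply, hp, Function.update_self, Function.update_of_ne (Ne.symm hxi)] at this
        exact this
      exact P.hba ((τ (π x)).injective ((h0 P.b).trans (h0 P.a).symm))
    · have h0 : ∀ y, τ i y = P.a := fun y => by
        have := congrFun (h (Function.update (fun _ => P.a) x y)
          (not_mem_core.2 ⟨l, hl0, Function.update_of_ne hlx _ _⟩)) i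
        simpa [hp, Function.update_of_ne hxi.symm] using this
      exact P.hba ((τ i).injective ((h0 P.b).trans (h0 P.a).symm))
  subst hπ
  rw [act_eq_one_iff hm2]
  refine ⟨rfl, funext fun i => Equiv.ext fun y => ?_⟩
  obtain ⟨l, hl0, hli⟩ := exists_ne_ne hn i
  have := congrFun (h (Function.update (fun _ => P.a) i y)
    (not_mem_core.2 ⟨l, hl0, Function.update_of_ne hli _ _⟩)) i
  simpa [Perm.one_def] using this

theorem mem_W_or_alt (hm : 5 ≤ m) (hn : 2 ≤ n) {G : Subgroup (Perm (Pt m (n + 1)))}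
    (hW : Wev m (n + 1) ≤ G) (h2 : MulAction.IsMultiplyPretransitive G (Pt m (n + 1)) 2)
    (hG : Odd m → G ≤ alternatingGroup (Pt m (n + 1))) (P : Param m) (hR : Rigid G P)
    (T : Set (Perm (Fin m))) (hvT : P.v ∈ T) (hv'T : P.v' ∈ T)
    (hT : ∀ t ∈ T, IsConj t P.v ∧ t P.a = P.a) {z : Perm (Pt m (n + 1))} (hz : z ∈ G)
    (hp : ∃ r, z ^ P.p ^ r = 1) (hA : z (fun _ => P.a) = fun _ => P.a)
    (hB : z (Function.update (fun _ => P.a) 0 P.b) = Function.update (fun _ => P.a) 0 P.b)
    (hperm : ∀ i, i ≠ 0 → ∀ t ∈ T, ∃ j, j ≠ 0 ∧ ∃ t' ∈ T, z * coord i t * z⁻¹ = coord j t') :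
    z ∈ W m (n + 1) ∨ alternatingGroup (Pt m (n + 1)) ≤ G := by
  classical
  refine or_iff_not_imp_right.2 fun halt => ?_
  have hfix : ∀ (j : Fin (n + 1)) (t : Perm (Fin m)) (ht : t ∈ T) (f : Pt m (n + 1)),
      coord j t f = f ↔ f j = P.a := fun j t ht f => by
    rw [coord_fixed, P.fix_iff_of_isConj hm (hT t ht).1 (hT t ht).2]
  -- the permutation of the slabs
  have hslab : ∀ i, i ≠ 0 → ∃ j, j ≠ 0 ∧ ∀ f, z f j = P.a ↔ f i = P.a := by
    intro i hi
    obtain ⟨j, hj, t', ht', he⟩ := hperm i hi _ hvT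
    refine ⟨j, hj, fun f => ?_⟩
    rw [← hfix j t' ht', ← he, ← hfix i P.v hvT]
    simp [Perm.inv_def]
  choose! σ hσ0 hσ using hslab
  let σ' : Fin (n + 1) → Fin (n + 1) := fun i => if i = 0 then 0 else σ i
  have hσ' : ∀ i, i ≠ 0 → σ' i = σ i := fun i hi => if_neg hi
  have huniq : ∀ i j : Fin (n + 1), (∀ f : Pt m (n + 1), f i = P.a ↔ f j = P.a) → i = j := by
    intro i j h
    by_contra hne
    have := (h (Function.update (fun _ => P.a) i P.b)).2 (Function.update_of_ne (Ne.symm hne) _ _)
    rw [Function.update_self] at this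
    exact P.hba this
  have hinj : Function.Injective σ' := by
    intro i j hij
    by_cases hi : i = 0 <;> by_cases hj : j = 0
    · rw [hi, hj]
    · exfalso; rw [hσ' j hj] at hij; simp [σ', hi] at hij; exact hσ0 j hj hij.symm
    · exfalso; rw [hσ' i hi] at hij; simp [σ', hj] at hij; exact hσ0 i hi hij
    · rw [hσ' i hi, hσ' j hj] at hij
      exact huniq i j fun f => by rw [← hσ i hi, hij, hσ j hj]
  let π : Perm (Fin (n + 1)) := Equiv.ofBijective σ' (Finite.injective_iff_bijective.1 hinj)
  have hπ0 : π 0 = 0 := by show σ' 0 = 0; exact if_pos rfl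
  have hπne : ∀ i, i ≠ 0 → π i ≠ 0 := fun i hi e => hi (π.injective (e.trans hπ0.symm))
  obtain ⟨t0, ht0a, ht0b, hc⟩ := exists_act_mem_Wev hm π P.a P.b 0
  set c := act π (Pi.mulSingle 0 t0) with hcdef
  have hcA : c (fun _ => P.a) = fun _ => P.a := funext fun i => by
    rw [hcdef, act_apply]
    rcases eq_or_ne i 0 with rfl | hi <;> simp [*]
  have hcB : c (Function.update (fun _ => P.a) 0 P.b) = Function.update (fun _ => P.a) 0 P.b :=
    funext fun i => by
      rw [hcdef, act_apply]
      rcases eq_or_ne i 0 with rfl | hi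
      · rw [show π.symm 0 = 0 by rw [Equiv.symm_apply_eq, hπ0]]; simp [ht0b]
      · have : π.symm i ≠ 0 := fun e => hi (by rw [← π.apply_symm_apply i, e, hπ0])
        simp [Function.update_of_ne this, Function.update_of_ne hi, hi]
  set z2 := c⁻¹ * z with hz2def
  have hz2 : z2 ∈ G := G.mul_mem (G.inv_mem (hW hc)) hz
  have hpres : ∀ i, i ≠ 0 → ∀ f, z2 f i = P.a ↔ f i = P.a := by
    intro i hi f
    have h1 : c (z2 f) (π i) = z2 f i := by
      rw [hcdef, act_apply, Pi.mulSingle_eq_of_ne (hπne i hi)]; simp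
    rw [← h1, ← hσ i hi f]
    have : π i = σ i := hσ' i hi
    simp [z2, this, Perm.inv_def]
  have hz2A : z2 (fun _ => P.a) = fun _ => P.a := by
    rw [hz2def, Perm.mul_apply, hA, Perm.inv_def, Equiv.symm_apply_eq, hcA]
  have hz2B : z2 (Function.update (fun _ => P.a) 0 P.b) = Function.update (fun _ => P.a) 0 P.b := by
    rw [hz2def, Perm.mul_apply, hB, Perm.inv_def, Equiv.symm_apply_eq, hcB]
  have hperm2 : ∀ i, i ≠ 0 → ∀ t ∈ T, ∃ t' ∈ T, z2 * coord i t * z2⁻¹ = coord i t' := by
    intro i hi t ht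
    obtain ⟨j, hj, t', ht', he⟩ := hperm i hi t ht
    refine ⟨t', ht', ?_⟩
    have hj' : j = π i := by
      refine huniq _ _ fun f => ?_
      obtain ⟨g, rfl⟩ := z.surjective f
      rw [show π i = σ i from hσ' i hi, hσ i hi, ← hfix j t' ht', ← he, ← hfix i t ht]
      simp [Perm.inv_def]
    have h1 : c * coord i t' * c⁻¹ = coord j t' := by
      rw [hcdef, act_conj_coord, Pi.mulSingle_eq_of_ne (hπne i hi), hj']; simp
    calc z2 * coord i t * z2⁻¹ = c⁻¹ * (z * coord i t * z⁻¹) * c := by rw [hz2def]; group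
      _ = coord i t' := by rw [he, ← h1]; group
  -- the coordinate permutations on the slabs
  have hloc : ∀ j, j ≠ 0 → ∃ τ : Fin (n + 1) → Perm (Fin m),
      ∀ f : Pt m (n + 1), f j = P.a → z2 f = act 1 τ f := by
    intro j hj
    obtain ⟨t', ht', he⟩ := hperm2 j hj _ hvT
    obtain ⟨s, hs1, hsa, hs⟩ := P.exists_conj hm (hT t' ht').1 (hT t' ht').2
    have hS : coord j s ∈ G := coord_mem_of hm hW j hs1
    obtain ⟨w, hw, hwf⟩ := hR j _ (G.mul_mem (G.inv_mem hS) hz2) (by
      rw [commute_iff_eq]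
      have h3 : coord j s * P.el j * (coord j s)⁻¹ = z2 * P.el j * z2⁻¹ := by
        show coord j s * coord j P.v * (coord j s)⁻¹ = z2 * coord j P.v * z2⁻¹
        rw [he, ← map_inv, ← map_mul, ← map_mul, hs]
      rw [mul_inv_eq_iff_eq_mul] at h3
      calc (coord j s)⁻¹ * z2 * P.el j = (coord j s)⁻¹ * (z2 * P.el j * z2⁻¹) * z2 := by group
        _ = (coord j s)⁻¹ * (coord j s * P.el j * (coord j s)⁻¹) * z2 := by rw [mul_inv_eq_iff_eq_mul.2 h3]
        _ = P.el j * ((coord j s)⁻¹ * z2) := by group)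
    obtain ⟨πj, τ, rfl⟩ := mem_W_iff.1 hw
    have hag : ∀ f : Pt m (n + 1), f j = P.a → z2 f = act πj τ f := by
      intro f hf
      have h1 := hwf f hf
      rw [Perm.mul_apply, Perm.inv_def, Equiv.symm_apply_eq] at h1
      have h2' : z2 f j = P.a := (hpres j hj f).2 hf
      rw [h1, coord_apply, Function.update_self] at h2'
      rw [h1, coord_apply, show s (act πj τ f j) = act πj τ f j from
        h2'.trans (s.injective (h2'.trans hsa.symm)).symm, Function.update_eq_self]
    have hloc' : ∀ i, i ≠ 0 → πj.symm i = i ∨ πj.symm i = j := by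
      intro i hi
      by_contra hno
      push Not at hno
      have h0 : ∀ y, τ i y = P.a := by
        intro y
        set f := Function.update (fun _ : Fin (n + 1) => P.a) (πj.symm i) y with hfdef
        have hfj : f j = P.a := by simp [hfdef, Function.update_of_ne hno.2.symm]
        have hfi : f i = P.a := by simp [hfdef, Function.update_of_ne hno.1.symm]
        have := (hpres i hi f).2 hfi
        rw [hag f hfj, act_apply] at this
        simpa [hfdef] using this
      exact P.hba ((τ i).injective ((h0 P.b).trans (h0 P.a).symm))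
    have hjj : πj.symm j = j := (hloc' j hj).elim id id
    have hπj : πj = 1 := by
      have hother : ∀ i, i ≠ 0 → πj.symm i = i := fun i hi => (hloc' i hi).elim id fun e => by
        rw [e]; exact (πj.symm.injective (e.trans hjj.symm)).symm
      refine Equiv.ext fun x => ?_
      have : ∀ i, πj.symm i = i := fun i => by
        rcases eq_or_ne i 0 with rfl | hi
        · by_contra hne
          have := hother _ hne
          exact hne (πj.symm.injective this)
        · exact hother i hi
      simpa using (congrArg πj (this x)).symm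
    exact ⟨τ, fun f hf => by rw [hag f hf, hπj]⟩
  choose! loc hloc using hloc
  choose j₀ hj₀ hj₀' using exists_ne_ne (n := n) hn
  let τ : Fin (n + 1) → Perm (Fin m) := fun i => loc (j₀ i) i
  have hagree : ∀ f, f ∉ core P n → z2 f = act 1 τ f := by
    intro f hf
    obtain ⟨j, hj, hfj⟩ := not_mem_core.1 hf
    funext i
    rw [act_apply, show (1 : Perm (Fin (n + 1))).symm i = i from rfl]
    rcases eq_or_ne i j with rfl | hij
    · rw [hfj, (hpres i hj f).2 hfj]
      have := congrFun (hloc _ (hj₀ i) (fun _ => P.a) rfl) i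
      rw [hz2A] at this
      exact this
    · have h1 := congrFun (hloc j hj f hfj) i
      set g := Function.update (fun _ : Fin (n + 1) => P.a) i (f i)
      have hgj : g j = P.a := Function.update_of_ne hij.symm _ _
      have hg0 : g (j₀ i) = P.a := Function.update_of_ne (hj₀' i) _ _
      have h3 := congrFun (hloc j hj g hgj) i
      have h4 := congrFun (hloc _ (hj₀ i) g hg0) i
      rw [h3] at h4
      rw [h1]
      simpa [g, τ, Perm.one_def] using h4
  set ω := act 1 τ with hωdef
  set z' := ω⁻¹ * z2 with hz'def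
  have hoff : ∀ f, f ∉ core P n → z' f = f := fun f hf => by
    rw [hz'def, Perm.mul_apply, hagree f hf]; simp
  have hcomm : ∀ l, l ≠ 0 → ∀ t ∈ T, Commute z' (coord l t) := by
    intro l hl t ht
    obtain ⟨t', ht', he⟩ := hperm2 l hl t ht
    have hconj : z' * coord l t * z'⁻¹ = coord l ((τ l)⁻¹ * t' * τ l) := by
      have h5 : ω⁻¹ * coord l t' * (ω⁻¹)⁻¹ = coord l ((τ l)⁻¹ * t' * τ l) := by
        rw [hωdef, act_inv, act_conj_coord]
        simp
      rw [← h5, ← he, hz'def]; group
    suffices h : (τ l)⁻¹ * t' * τ l = t by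
      rw [h] at hconj
      exact (mul_inv_eq_iff_eq_mul.1 hconj)
    refine Equiv.ext fun y => ?_
    obtain ⟨i, hi0, hil⟩ := exists_ne_ne hn l
    set f := Function.update (fun _ : Fin (n + 1) => P.a) l y
    have hf : f ∉ core P n := not_mem_core.2 ⟨i, hi0, Function.update_of_ne hil _ _⟩
    have hf' : coord l t f ∉ core P n := not_mem_core.2 ⟨i, hi0, by
      simp [f, coord_apply, Function.update_of_ne hil]⟩
    have := congrFun (Equiv.ext_iff.1 (mul_inv_eq_iff_eq_mul.1 hconj) f) l
    simp only [Perm.mul_apply] at this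
    rw [hoff _ hf', hoff _ hf] at this
    rw [← inv_inv (τ l)]
    simp only [inv_inv] at this ⊢
    simp only [Perm.mul_apply] at this ⊢
    simpa [f, coord_apply, ← map_inv] using this.symm
  have hωG : ω ∈ G := by
    refine hW (mem_Wev.2 ⟨act_mem_W _ _, ?_⟩)
    rcases Nat.even_or_odd m with hev | hodd
    · exact .inl hev
    refine .inr ?_
    have hsz : sign z2 = 1 := mem_alternatingGroup.1 (hG hodd hz2)
    by_cases hp2 : P.p = 2
    · obtain ⟨i₁, h₁, -⟩ := exists_ne_ne hn 0
      obtain ⟨i₂, h₂, h₁₂⟩ := exists_ne_ne hn i₁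
      obtain ⟨e', he'⟩ := P.even_p.1 hp2
      have he0 := P.e_two_le hm
      have hne : P.v ^ e' ≠ 1 := fun h => by
        have := Nat.le_of_dvd (by omega) (P.orderOf_v ▸ orderOf_dvd_of_pow_eq_one h)
        omega
      have hsq : coord i₁ (P.v ^ e') * coord i₁ (P.v ^ e') = (1 : Perm (Pt m (n + 1))) ∧
          coord i₂ (P.v ^ e') * coord i₂ (P.v ^ e') = (1 : Perm (Pt m (n + 1))) := by
        constructor <;> rw [← map_mul, ← pow_add, ← two_mul, ← he', P.v_pow_e, map_one]
      have hva : (P.v ^ e') P.a = P.a := (P.fix_pow e' hne _).2 rfl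
      have hmem : ∀ l f, f ∈ core P n → coord l (P.v ^ e') f ∈ core P n := fun l f hf i hi => by
        rw [coord_apply]
        rcases eq_or_ne i l with rfl | hne'
        · rw [Function.update_self]
          exact fun e => hf i hi ((P.v ^ e').injective (e.trans hva.symm))
        · rw [Function.update_of_ne hne']; exact hf i hi
      have hmv : ∀ l, l ≠ 0 → ∀ f, f ∈ core P n → coord l (P.v ^ e') f ≠ f := fun l hl f hf e => by
        rw [coord_fixed] at e
        exact hf l hl ((P.fix_pow e' hne _).1 e)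
      have h1 : sign z' = 1 := by
        refine sign_eq_one_of_commute_fpf z' _ _ (core P n) hsq.1 hsq.2 (coord_comm h₁₂.symm _ _)
          (by rw [map_pow]; exact (hcomm _ h₁ _ hvT).pow_right _)
          (by rw [map_pow]; exact (hcomm _ h₂ _ hvT).pow_right _) hoff
          (fun f hf => ⟨hmem _ f hf, hmem _ f hf⟩)
          fun f hf => ⟨hmv _ h₁ f hf, hmv _ h₂ f hf, fun e => ?_⟩
        have h := congrFun e i₁
        rw [coord_apply, coord_apply, Function.update_self, Function.update_of_ne h₁₂.symm] at h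
        exact hf i₁ h₁ ((P.fix_pow e' hne _).1 h)
      have h6 : sign z2 = sign ω * sign z' := by rw [← map_mul, hz'def, mul_inv_cancel_left]
      rw [hsz, h1, mul_one] at h6
      exact h6.symm
    · obtain ⟨r, hr⟩ := hp
      have hodd' : Odd (P.p ^ r) := (P.hp.odd_of_ne_two hp2).pow
      have hpow : ∀ k : ℕ, ∀ f, f ∉ core P n → (z ^ k) f = ((c * ω) ^ k) f ∧ (z ^ k) f ∉ core P n := by
        intro k
        induction k with
        | zero => intro f hf; simp [hf]
        | succ k ih =>
          intro f hf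
          obtain ⟨h1, h3⟩ := ih f hf
          constructor
          · rw [pow_succ', pow_succ', Perm.mul_apply, Perm.mul_apply, ← h1, Perm.mul_apply,
              ← hagree _ h3, hz2def, Perm.mul_apply, Perm.inv_def, Equiv.apply_symm_apply]
          · obtain ⟨i, hi, hfi⟩ := not_mem_core.1 h3
            exact not_mem_core.2 ⟨σ i, hσ0 i hi, by rw [pow_succ', Perm.mul_apply]; exact (hσ i hi _).2 hfi⟩
      have h1 : (c * ω) ^ (P.p ^ r) = 1 := eq_one_of_off_core hm hn P
        (Subgroup.pow_mem _ ((W m (n + 1)).mul_mem (act_mem_W _ _) (act_mem_W _ _)) _) fun f hf => by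
          rw [← (hpow _ f hf).1, hr, Perm.one_apply]
      have h7 := congrArg sign h1
      rw [map_pow, map_one, map_mul, Int.units_pow_eq_pow_mod_two, Nat.odd_iff.1 hodd', pow_one,
        show sign c = 1 from mem_alternatingGroup.1 (hG hodd (hW hc)), one_mul] at h7
      exact h7
  have hz'G : z' ∈ G := G.mul_mem (G.inv_mem hωG) hz2
  rcases eq_one_or_alt hm hn hW h2 P hz'G hoff (fun l hl => ⟨hcomm l hl _ hvT, hcomm l hl _ hv'T⟩)
    with h | h
  · have : z = c * ω := by
      have h8 : z2 = ω := by rw [hz'def, inv_mul_eq_one] at h; exact h.symm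
      rw [← h8, hz2def, mul_inv_cancel_left]
    rw [this]
    exact (W m (n + 1)).mul_mem (act_mem_W _ _) (act_mem_W _ _)
  · exact absurd h halt

end Cfsg.Agent.ProdAction
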