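import Cfsg.Agent.ProdAction.Descent
import Cfsg.Agent.ProdAction.Lift
import Cfsg.Agent.ProdAction.Dist
import Cfsg.Agent.ProdAction.Mask
import Cfsg.Agent.ProdAction.Parity
import Cfsg.Agent.ProdAction.Class

/-!
The slab of a coordinate element is rigid.
-/

set_option autoImplicit false

namespace Cfsg.Agent.ProdAction

open Equiv Equiv.Perm

variable {m n : ℕ}

theorem Param.e_two_le (P : Param m) (hm : 5 ≤ m) : 2 ≤ P.e := by
  rcases P.count with h | h <;> omega

theorem Param.v_ne_one (P : Param m) (hm : 5 ≤ m) : P.v ≠ 1 := fun h => by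
  have h2 := P.e_two_le hm
  rw [← P.orderOf_v, h, orderOf_one] at h2
  omega

theorem Param.v_fix (P : Param m) (hm : 5 ≤ m) (x : Fin m) : P.v x = x ↔ x = P.a := by
  simpa using P.fix_pow 1 (by simpa using P.v_ne_one hm) x

theorem Param.v_pow_e (P : Param m) : P.v ^ P.e = 1 := P.orderOf_v ▸ pow_orderOf_eq_one _

theorem Param.v_a (P : Param m) (hm : 5 ≤ m) : P.v P.a = P.a := (P.v_fix hm _).2 rfl

/-- A coordinate permutation made to lie in `Wev`. -/
theorem exists_act_mem_Wev (hm : 5 ≤ m) (π : Perm (Fin (n + 1))) (a : Fin m) (b : Fin m)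
    (l : Fin (n + 1)) :
    ∃ t : Perm (Fin m), t a = a ∧ t b = b ∧ act π (Pi.mulSingle l t) ∈ Wev m (n + 1) := by
  have h1 : act π (Pi.mulSingle l 1 : Fin (n + 1) → Perm (Fin m)) = act π 1 := by
    rw [Pi.mulSingle_one]
  by_cases h : Even m ∨ sign (act π (1 : Fin (n + 1) → Perm (Fin m))) = 1
  · exact ⟨1, rfl, rfl, by rw [h1]; exact mem_Wev.2 ⟨act_mem_W _ _, h⟩⟩
  · push Not at h
    obtain ⟨x, y, hxy, hx, hy⟩ : ∃ x y : Fin m, x ≠ y ∧ (x ≠ a ∧ x ≠ b) ∧ y ≠ a ∧ y ≠ b := by
      have hc : 1 < (({a, b} : Finset (Fin m))ᶜ).card := by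
        rw [Finset.card_compl, Fintype.card_fin]
        have : ({a, b} : Finset (Fin m)).card ≤ 2 := Finset.card_le_two
        omega
      obtain ⟨x, hx, y, hy, hxy⟩ := Finset.one_lt_card.1 hc
      exact ⟨x, y, hxy, by simpa using hx, by simpa using hy⟩
    refine ⟨swap x y, swap_apply_of_ne_of_ne hx.1.symm hy.1.symm,
      swap_apply_of_ne_of_ne hx.2.symm hy.2.symm, mem_Wev.2 ⟨act_mem_W _ _, .inr ?_⟩⟩
    have e : act π (Pi.mulSingle l (swap x y)) = coord l (swap x y) * act π 1 := by
      show _ = act 1 _ * act π 1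
      rw [act_mul, one_mul]
      congr 1
    rw [e, map_mul, sign_coord_of_odd (Nat.not_even_iff_odd.1 h.1), sign_swap hxy,
      (Int.units_eq_one_or _).resolve_left h.2]
    simp

/-- Extend a product element of the slab by the identity in coordinate `0`. -/
def extend (π : Perm (Fin n)) (τ : Fin n → Perm (Fin m)) : Perm (Pt m (n + 1)) :=
  act (Equiv.Perm.decomposeFin.symm (0, π)) (Fin.cons 1 τ)

theorem decompose_zero_symm_succ (π : Perm (Fin n)) (i : Fin n) :
    (Equiv.Perm.decomposeFin.symm (0, π)).symm i.succ = (π.symm i).succ := by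
  rw [Equiv.symm_apply_eq, Equiv.Perm.decomposeFin_symm_apply_succ]
  simp

theorem decompose_zero_symm_zero (π : Perm (Fin n)) :
    (Equiv.Perm.decomposeFin.symm (0, π)).symm 0 = 0 := by
  rw [Equiv.symm_apply_eq, Equiv.Perm.decomposeFin_symm_apply_zero]

theorem extend_cons (π : Perm (Fin n)) (τ : Fin n → Perm (Fin m)) (x : Fin m) (f : Pt m n) :
    extend π τ (Fin.cons x f) = Fin.cons x (act π τ f) := by
  funext i
  refine Fin.cases ?_ (fun i => ?_) i
  · simp [extend, decompose_zero_symm_zero]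
  · simp [extend, decompose_zero_symm_succ]

theorem sign_extend (π : Perm (Fin n)) (τ : Fin n → Perm (Fin m)) :
    sign (extend π τ) = sign (act π τ) ^ m := by
  let e : Pt m (n + 1) ≃ Fin m × Pt m n := (Fin.consEquiv fun _ => Fin m).symm
  rw [Equiv.Perm.sign_eq_sign_of_equiv (extend π τ) (Equiv.prodCongrRight fun _ => act π τ) e,
    sign_prodCongrRight, Finset.prod_const, Finset.card_univ, Fintype.card_fin]
  intro f
  obtain ⟨x, g, rfl⟩ : ∃ x g, Fin.cons x g = f := ⟨_, _, Fin.cons_self_tail f⟩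
  simp [e, extend_cons, Fin.consEquiv]

theorem extend_mem_Wev {π : Perm (Fin n)} {τ : Fin n → Perm (Fin m)}
    (h : act π τ ∈ Wev m n) : extend π τ ∈ Wev m (n + 1) := by
  refine mem_Wev.2 ⟨act_mem_W _ _, ?_⟩
  rcases (mem_Wev.1 h).2 with h | h
  · exact .inl h
  · exact .inr (by rw [sign_extend, h, one_pow])

/-- The element `v` in coordinate `j`. -/
def Param.el (P : Param m) {k : ℕ} (j : Fin k) : Perm (Pt m k) := coord j P.v

/-- Elements of `G` commuting with `v` in coordinate `j` act on the slab like elements of `W`. -/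
def Rigid (G : Subgroup (Perm (Pt m (n + 1)))) (P : Param m) : Prop :=
  ∀ j, ∀ z ∈ G, Commute z (P.el j) → ∃ w ∈ W m (n + 1), ∀ f, f j = P.a → z f = w f

theorem commute_preserves_slab (hm : 5 ≤ m) (P : Param m) {k : ℕ} {j : Fin k} {z : Perm (Pt m k)}
    (h : Commute z (P.el j)) (f : Pt m k) : z f j = P.a ↔ f j = P.a := by
  have hf : ∀ g : Pt m k, P.el j g = g ↔ g j = P.a := fun g => by
    rw [Param.el, coord_fixed]; exact P.v_fix hm _
  rw [← hf, ← hf, ← Perm.mul_apply, ← h.eq, Perm.mul_apply]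
  exact z.injective.eq_iff

/-- The points of the slab of coordinate `0`. -/
def slabEquiv (a : Fin m) : Pt m n ≃ {f : Pt m (n + 1) // f 0 = a} where
  toFun f := ⟨Fin.cons a f, rfl⟩
  invFun f := Fin.tail f.1
  left_inv f := Fin.tail_cons _ _
  right_inv := fun ⟨f, hf⟩ => Subtype.ext (by subst hf; exact Fin.cons_self_tail f)

/-- The centraliser in `G` of `v` in coordinate `0`. -/
def slabGroup (G : Subgroup (Perm (Pt m (n + 1)))) (P : Param m) : Subgroup (Perm (Pt m (n + 1))) :=
  G ⊓ Subgroup.centralizer {P.el 0}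

theorem mem_slabGroup {G : Subgroup (Perm (Pt m (n + 1)))} {P : Param m}
    {z : Perm (Pt m (n + 1))} : z ∈ slabGroup G P ↔ z ∈ G ∧ Commute z (P.el 0) := by
  rw [slabGroup, Subgroup.mem_inf, Subgroup.mem_centralizer_singleton_iff]
  exact Iff.rfl

/-- The action on the slab. -/
def restrict (hm : 5 ≤ m) (G : Subgroup (Perm (Pt m (n + 1)))) (P : Param m) :
    slabGroup G P →* Perm (Pt m n) :=
  MonoidHom.mk' (fun z => (slabEquiv P.a).symm.permCongr ((z : Perm _).subtypePerm fun f =>
      commute_preserves_slab hm P (mem_slabGroup.1 z.2).2 f)) fun y z => by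
    refine Equiv.ext fun f => ?_
    simp [Equiv.permCongr_apply]

theorem cons_restrict (hm : 5 ≤ m) {G : Subgroup (Perm (Pt m (n + 1)))} {P : Param m}
    (z : slabGroup G P) (f : Pt m n) :
    Fin.cons P.a (restrict hm G P z f) = (z : Perm (Pt m (n + 1))) (Fin.cons P.a f) :=
  by
  show ((slabEquiv P.a) (restrict hm G P z f)).1 = _
  simp [restrict, Equiv.permCongr_apply, slabEquiv]
  have h : (z : Perm (Pt m (n + 1))) (Fin.cons P.a f) 0 = P.a :=
    (commute_preserves_slab hm P (mem_slabGroup.1 z.2).2 _).2 (Fin.cons_zero _ _)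
  conv_lhs => arg 1; rw [← h]
  exact Fin.cons_self_tail _

theorem extend_commute (P : Param m) (π : Perm (Fin n)) (τ : Fin n → Perm (Fin m)) :
    Commute (extend π τ) (P.el 0) := by
  have h := act_conj_coord (Equiv.Perm.decomposeFin.symm (0, π)) (Fin.cons 1 τ) 0 P.v
  rw [Equiv.Perm.decomposeFin_symm_apply_zero, Fin.cons_zero, one_mul, inv_one, mul_one,
    mul_inv_eq_iff_eq_mul] at h
  exact h

theorem Wev_le_restrict (hm : 5 ≤ m) {G : Subgroup (Perm (Pt m (n + 1)))} (P : Param m)
    (hW : Wev m (n + 1) ≤ G) : Wev m n ≤ (restrict hm G P).range := by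
  intro σ hσ
  obtain ⟨π, τ, rfl⟩ := mem_W_iff.1 (Wev_le_W hσ)
  refine ⟨⟨extend π τ, mem_slabGroup.2 ⟨hW (extend_mem_Wev hσ), extend_commute P π τ⟩⟩, ?_⟩
  refine Equiv.ext fun f => Fin.cons_right_injective (α := fun _ : Fin (n + 1) => Fin m) P.a ?_
  rw [cons_restrict]
  exact extend_cons π τ _ f

theorem Param.cycle_length (P : Param m) (hm : 5 ≤ m) {c : Perm (Pt m (n + 1))}
    (hc : c ∈ (P.el (0 : Fin (n + 1))).cycleFactorsFinset) : c.support.card = P.e := by
  set v₀ := P.el (0 : Fin (n + 1)) with hv₀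
  have hcyc := (Equiv.Perm.mem_cycleFactorsFinset_iff.1 hc).1
  refine Nat.dvd_antisymm ?_ ?_
  · rw [← hcyc.orderOf]
    have hev : orderOf v₀ ∣ P.e := orderOf_dvd_of_pow_eq_one (by
      rw [hv₀, Param.el, ← map_pow, P.v_pow_e, map_one])
    refine dvd_trans ?_ hev
    rw [hcyc.orderOf]
    exact dvd_of_mem_cycleType (by
      rw [cycleType_def]; exact Multiset.mem_map.2 ⟨c, hc, rfl⟩)
  · obtain ⟨f, hf⟩ := hcyc.nonempty_support
    set l := c.support.card with hl
    by_contra hne
    have h1 : P.v ^ l ≠ 1 := fun h => hne (P.orderOf_v ▸ orderOf_dvd_of_pow_eq_one h)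
    have h2 : (v₀ ^ l) f = f := by
      rw [← (Equiv.Perm.mem_cycleFactorsFinset_iff.1 hc).1.orderOf] at hl
      have := Equiv.Perm.cycle_is_cycleOf hf hc
      have h3 : (c ^ l) f = f := by rw [hl, pow_orderOf_eq_one]; rfl
      rw [this, cycleOf_pow_apply_self] at h3
      exact h3
    rw [hv₀, Param.el, ← map_pow, coord_fixed] at h2
    have h4 : f 0 = P.a := (P.fix_pow l h1 _).1 h2
    have h5 : v₀ f = f := by
      rw [hv₀, Param.el, coord_fixed]; exact (P.v_fix hm _).2 h4
    exact (Equiv.Perm.mem_support.1 (mem_cycleFactorsFinset_support_le hc hf)) h5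

/-- The number of cycles and the support of `v` in coordinate `0`. -/
theorem Param.card_cycles (P : Param m) (hm : 5 ≤ m) :
    P.e * (P.el (0 : Fin (n + 1))).cycleFactorsFinset.card = (m - 1) * m ^ n := by
  classical
  set v₀ := P.el (0 : Fin (n + 1)) with hv₀
  have hsupp : v₀.support.card = (m - 1) * m ^ n := by
    have hc : v₀.supportᶜ = Finset.univ.filter fun f : Pt m (n + 1) => f 0 = P.a := by
      ext f
      simp [hv₀, Param.el, coord_fixed, P.v_fix hm]
    have h1 := Finset.card_compl v₀.support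
    rw [hc, ← Fintype.card_subtype, ← Fintype.card_congr (slabEquiv P.a)] at h1
    simp only [Fintype.card_fun, Fintype.card_fin, pow_succ'] at h1
    have h2 : v₀.support.card ≤ m * m ^ n := by
      simpa [Fintype.card_fun, pow_succ'] using Finset.card_le_univ v₀.support
    rw [Nat.sub_mul, one_mul]
    omega
  have hlen : ∀ c ∈ v₀.cycleFactorsFinset, c.support.card = P.e := fun c hc => P.cycle_length hm hc
  rw [← hsupp, ← sum_cycleType, cycleType_def,
    Multiset.map_congr rfl (f := Finset.card ∘ Perm.support) (g := fun _ => P.e)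
      (fun c hc => hlen c hc),
    Multiset.map_const', Multiset.sum_replicate, smul_eq_mul, mul_comm]
  rfl

theorem exists_small_element (hm : 5 ≤ m) (hn : 2 ≤ n) {G : Subgroup (Perm (Pt m (n + 1)))}
    (P : Param m) (halt : alternatingGroup (Pt m n) ≤ (restrict hm G P).range) :
    ∃ y ∈ G, y ≠ 1 ∧ y.support.card ≤ 5 * m := by
  classical
  have hN : 25 ≤ Fintype.card (Pt m n) := by
    simp only [Fintype.card_fun, Fintype.card_fin]
    calc 25 ≤ m ^ 2 := by nlinarith
      _ ≤ m ^ n := Nat.pow_le_pow_right (by omega) hn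
  set v₀ := P.el (0 : Fin (n + 1))
  let ι : slabGroup G P →* Subgroup.centralizer {v₀} :=
    Subgroup.inclusion inf_le_right
  let ψ := (Equiv.Perm.OnCycleFactors.toPermHom v₀).comp ι
  have hcard : P.e * Fintype.card v₀.cycleFactorsFinset = (m - 1) * Fintype.card (Pt m n) := by
    simpa [Fintype.card_fun] using P.card_cycles (n := n) hm
  -- the key estimate
  have key : ∀ (x : slabGroup G P) (σ : Perm (Pt m n)) (r : ℕ), restrict hm G P x = σ ^ r →
      ((x : Perm (Pt m (n + 1))) ^ P.e).support.card ≤ σ.support.card + P.e * (ψ x).support.card := by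
    intro x σ r hx
    have hsub : ((x : Perm (Pt m (n + 1))) ^ P.e).support ⊆ σ.support.image (Fin.cons P.a) ∪
        (ψ x).support.biUnion (fun c => (c : Perm (Pt m (n + 1))).support) := by
      intro f hf
      rw [Finset.mem_union]
      by_cases h0 : f 0 = P.a
      · refine .inl (Finset.mem_image.2 ⟨Fin.tail f, ?_, by rw [← h0, Fin.cons_self_tail]⟩)
        rw [mem_support] at hf ⊢
        intro hfix
        apply hf
        have h1 := cons_restrict hm (x ^ P.e) (Fin.tail f)
        rw [map_pow, hx, ← pow_mul, Perm.pow_apply_eq_self_of_apply_eq_self hfix, ← h0,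
          Fin.cons_self_tail] at h1
        exact h1.symm
      · right
        have hfv : f ∈ v₀.support := by
          rw [mem_support]; simp [v₀, Param.el, coord_fixed, P.v_fix hm, h0]
        obtain ⟨c, hc, hfc⟩ : ∃ c ∈ v₀.cycleFactorsFinset, f ∈ c.support :=
          ⟨v₀.cycleOf f, cycleOf_mem_cycleFactorsFinset_iff.2 hfv,
            mem_support_cycleOf_iff.2 ⟨SameCycle.rfl, hfv⟩⟩
        refine Finset.mem_biUnion.2 ⟨⟨c, hc⟩, mem_support.2 fun hfix => ?_, hfc⟩
        have hcx : (x : Perm (Pt m (n + 1))) * c * (x : Perm (Pt m (n + 1)))⁻¹ = c := congrArg Subtype.val hfix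
        have hxf : (x : Perm (Pt m (n + 1))) f ∈ c.support := by
          rw [← hcx, Perm.support_conj, Finset.mem_map_equiv]
          simpa using hfc
        have hcyc := cycle_is_cycleOf hfc hc
        rw [hcyc, mem_support_cycleOf_iff] at hxf
        obtain ⟨i, hi⟩ := hxf.1
        have hcomm : Commute (x : Perm (Pt m (n + 1))) v₀ := (mem_slabGroup.1 x.2).2
        have hpow : ∀ r : ℕ, ((x : Perm (Pt m (n + 1))) ^ r) f = (v₀ ^ (i * r)) f := by
          intro r
          induction r with
          | zero => simp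
          | succ r ih =>
            rw [pow_succ', Perm.mul_apply, ih, ← Perm.mul_apply, (hcomm.zpow_right _).eq,
              Perm.mul_apply, ← hi, ← Perm.mul_apply, ← zpow_add]
            push_cast
            ring_nf
        have hpe := hpow P.e
        have hv₀e : v₀ ^ (P.e : ℤ) = 1 := by
          rw [zpow_natCast, show v₀ = coord 0 P.v from rfl, ← map_pow, P.v_pow_e, map_one]
        rw [mul_comm, zpow_mul, hv₀e, one_zpow, Perm.one_apply] at hpe
        exact mem_support.1 hf hpe
    refine (Finset.card_le_card hsub).trans ((Finset.card_union_le _ _).trans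
      (add_le_add Finset.card_image_le (Finset.card_biUnion_le.trans ?_)))
    rw [mul_comm]
    exact Finset.sum_le_card_nsmul _ _ _ fun c _ => (P.cycle_length hm c.2).le
  -- a short cycle in the alternating group of the slab
  have hcyc : ∀ r, r = 3 ∨ r = 5 → ∃ σ ∈ alternatingGroup (Pt m n),
      σ.support.card = r ∧ orderOf σ = r := by
    intro r hr
    obtain ⟨T, hT⟩ := Finset.exists_subset_card_eq (s := (Finset.univ : Finset (Pt m n))) (n := r)
      (by rw [Finset.card_univ]; omega)
    let l := T.toList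
    have hl : l.length = r := by rw [Finset.length_toList]; exact hT.2
    have hnd : l.Nodup := T.nodup_toList
    have hne : ∀ x, l ≠ [x] := fun x h => by rw [h] at hl; simp at hl; omega
    have hσ : l.formPerm.IsCycle := List.isCycle_formPerm hnd (by omega)
    have hsupp : l.formPerm.support.card = r := by
      rw [List.support_formPerm_of_nodup l hnd hne, Finset.toList_toFinset, hT.2]
    refine ⟨l.formPerm, ?_, hsupp, by rw [hσ.orderOf, hsupp]⟩
    rw [mem_alternatingGroup, hσ.sign, hsupp]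
    rcases hr with rfl | rfl <;> rfl
  rcases P.count with ⟨he, h5⟩ | ⟨he, h3⟩
  · obtain ⟨σ, hσ, hσs, hσo⟩ := hcyc 5 (.inr rfl)
    obtain ⟨x, hx, hxs⟩ := (exists_small_lift ψ (restrict hm G P) halt (by omega)
      (by
        rw [← he, mul_assoc] at hcard
        nlinarith [P.e_two_le hm]) σ hσ).1
    refine ⟨(x : Perm _) ^ P.e, G.pow_mem (mem_slabGroup.1 x.2).1 _, fun h1 => ?_, ?_⟩
    · have : restrict hm G P (x ^ P.e) = 1 := by
        rw [show x ^ P.e = 1 from Subtype.ext h1, map_one]
      rw [map_pow, hx, ← pow_mul] at this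
      have hd := orderOf_dvd_of_pow_eq_one this
      rw [hσo] at hd
      rcases (Nat.Prime.dvd_mul Nat.prime_five).1 hd with h | h
      · omega
      · exact h5 h
    · have := key x σ 2 hx
      have h' := Nat.mul_le_mul_left P.e hxs
      rw [hσs] at this h'
      omega
  · obtain ⟨σ, hσ, hσs, hσo⟩ := hcyc 3 (.inl rfl)
    obtain ⟨x, hx, hxs⟩ := (exists_small_lift ψ (restrict hm G P) halt (by omega)
      (by
        rw [← he] at hcard
        have := Nat.eq_of_mul_eq_mul_left (show 0 < P.e by omega) hcard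
        omega) σ hσ).2 (by
        rw [← he] at hcard
        exact (Nat.eq_of_mul_eq_mul_left (show 0 < P.e by omega) hcard).le)
    refine ⟨(x : Perm _) ^ P.e, G.pow_mem (mem_slabGroup.1 x.2).1 _, fun h1 => ?_, ?_⟩
    · have : restrict hm G P (x ^ P.e) = 1 := by
        rw [show x ^ P.e = 1 from Subtype.ext h1, map_one]
      rw [map_pow, hx] at this
      have hd := orderOf_dvd_of_pow_eq_one this
      rw [hσo] at hd
      exact h3 hd
    · have := key x σ 1 (by rw [pow_one]; exact hx)
      have h' := Nat.mul_le_mul_left P.e hxs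
      rw [hσs] at this h'
      omega

theorem rigid_or_alt (hm : 5 ≤ m) (hn : 2 ≤ n) (hkey : Key m n)
    {G : Subgroup (Perm (Pt m (n + 1)))} (hW : Wev m (n + 1) ≤ G)
    (h2 : MulAction.IsMultiplyPretransitive G (Pt m (n + 1)) 2) (P : Param m) :
    (Rigid G P ∧ (restrict hm G P).range ≤ W m n) ∨ alternatingGroup (Pt m (n + 1)) ≤ G := by
  rcases hkey _ (Wev_le_restrict hm P hW) with h | h
  · refine .inl ⟨?_, h⟩
    intro j z hz hcomm
    obtain ⟨l, hl0, hlj⟩ : ∃ l : Fin (n + 1), l ≠ 0 ∧ l ≠ j := by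
      by_contra hno
      push Not at hno
      have := Finset.card_le_card (s := (Finset.univ : Finset (Fin (n + 1)))) (t := {0, j})
        fun i _ => by
          rcases eq_or_ne i 0 with rfl | h
          · simp
          · simp [hno i h]
      have h2 : ({0, j} : Finset (Fin (n + 1))).card ≤ 2 := Finset.card_le_two
      simp at this
      omega
    obtain ⟨t, -, -, hc⟩ := exists_act_mem_Wev hm (swap 0 j) P.a P.a l
    set c := act (swap 0 j) (Pi.mulSingle l t) with hcdef
    have hconj : c * P.el 0 * c⁻¹ = P.el j := by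
      rw [hcdef, Param.el, act_conj_coord, swap_apply_left, Pi.mulSingle_eq_of_ne hlj.symm]
      simp [Param.el]
    have hz0 : c⁻¹ * z * c ∈ slabGroup G P := by
      refine mem_slabGroup.2 ⟨G.mul_mem (G.mul_mem (G.inv_mem (hW hc)) hz) (hW hc), ?_⟩
      rw [← hconj] at hcomm
      have h := hcomm.eq
      show c⁻¹ * z * c * P.el 0 = P.el 0 * (c⁻¹ * z * c)
      calc c⁻¹ * z * c * P.el 0 = c⁻¹ * (z * (c * P.el 0 * c⁻¹)) * c := by group
        _ = c⁻¹ * (c * P.el 0 * c⁻¹ * z) * c := by rw [h]
        _ = _ := by group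
    obtain ⟨π, τ, hσ⟩ := mem_W_iff.1 (h ⟨⟨_, hz0⟩, rfl⟩)
    refine ⟨c * extend π τ * c⁻¹, (W m (n + 1)).mul_mem ((W m (n + 1)).mul_mem (act_mem_W _ _)
      (act_mem_W _ _)) ((W m (n + 1)).inv_mem (act_mem_W _ _)), fun f hf => ?_⟩
    have hf0 : c⁻¹ f 0 = P.a := by
      have : c (c⁻¹ f) j = P.a := by rwa [Perm.inv_def, Equiv.apply_symm_apply]
      rw [hcdef, act_apply, Pi.mulSingle_eq_of_ne hlj.symm] at this
      simpa using this
    have h1 := cons_restrict hm ⟨_, hz0⟩ (Fin.tail (c⁻¹ f))
    rw [hσ, ← extend_cons, ← hf0, Fin.cons_self_tail] at h1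
    simp only [Perm.mul_apply]
    rw [h1]
    simp [Perm.inv_def]
  · right
    obtain ⟨y, hy, hy1, hys⟩ := exists_small_element hm hn P h
    have hN : 25 * m ≤ Fintype.card (Pt m (n + 1)) := by
      simp only [Fintype.card_fun, Fintype.card_fin, pow_succ]
      exact Nat.mul_le_mul_right m (le_trans (by nlinarith : 25 ≤ m ^ 2) (Nat.pow_le_pow_right (by omega) hn))
    exact alt_of_small h2 hy hy1 (.inr ⟨by omega, by omega⟩)

end Cfsg.Agent.ProdAction
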