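import Cfsg.Agent.ProdAction.TwoNorm
import Cfsg.Agent.ProdAction.Dist
import Cfsg.Agent.S3620

/-!
The case `k = 2`: the centraliser of a coordinate cycle keeps one of the two partitions of its
fixed point set.
-/

set_option autoImplicit false

namespace Cfsg.Agent.ProdAction

open Equiv Equiv.Perm

/-- Two prescribed values and a prescribed sign. -/
theorem exists_perm_two_sign {m : ℕ} (hm : 4 ≤ m) {y y' z z' : Fin m} (hy : y ≠ y')
    (hz : z ≠ z') (s : ℤˣ) : ∃ t : Perm (Fin m), sign t = s ∧ t y = z ∧ t y' = z' := by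
  obtain ⟨t, ht, ht'⟩ : ∃ t : Perm (Fin m), t y = z ∧ t y' = z' := by
    refine ⟨Equiv.swap (Equiv.swap y z y') z' * Equiv.swap y z, ?_, ?_⟩
    · rw [Perm.mul_apply, Equiv.swap_apply_left, Equiv.swap_apply_of_ne_of_ne ?_ hz]
      intro e
      exact hy ((Equiv.swap y z).injective ((Equiv.swap_apply_left y z).trans e))
    · simp [Perm.mul_apply]
  by_cases hs : sign t = s
  · exact ⟨t, hs, ht, ht'⟩
  · obtain ⟨u, hu, w, hw, huw⟩ :=
      Finset.one_lt_card.1 (show 1 < (({z, z'} : Finset (Fin m))ᶜ).card by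
        rw [Finset.card_compl, Fintype.card_fin, Finset.card_pair hz]; omega)
    simp only [Finset.mem_compl, Finset.mem_insert, Finset.mem_singleton, not_or] at hu hw
    refine ⟨Equiv.swap u w * t, ?_, ?_, ?_⟩
    · rw [map_mul, Perm.sign_swap huw]
      rcases Int.units_eq_one_or (sign t) with e | e <;>
        rcases Int.units_eq_one_or s with e' | e' <;> rw [e, e'] at hs <;> rw [e, e'] <;>
        first | exact absurd rfl hs | decide
    · rw [Perm.mul_apply, ht, Equiv.swap_apply_of_ne_of_ne (Ne.symm hu.1) (Ne.symm hw.1)]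
    · rw [Perm.mul_apply, ht', Equiv.swap_apply_of_ne_of_ne (Ne.symm hu.2) (Ne.symm hw.2)]

namespace TwoData

variable {m : ℕ} (D : TwoData m) {G : Subgroup (Perm (Pt m 2))}

/-- The centraliser in `G` of the first coordinate cycle. -/
def cent (G : Subgroup (Perm (Pt m 2))) : Subgroup (Perm (Pt m 2)) :=
  G ⊓ Subgroup.centralizer {coord (0 : Fin 2) D.v}

theorem mem_cent {g : Perm (Pt m 2)} :
    g ∈ D.cent G ↔ g ∈ G ∧ Commute g (coord (0 : Fin 2) D.v) := by
  rw [cent, Subgroup.mem_inf, Subgroup.mem_centralizer_singleton_iff]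
  exact Iff.rfl

theorem CD_cent {g : Perm (Pt m 2)} (hg : g ∈ D.cent G) (f : Pt m 2) :
    D.CD (g f 0) ↔ D.CD (f 0) :=
  D.CD_iff_of_commute (D.mem_cent.1 hg).2 f

theorem CD_swap_comm : Commute (Equiv.swap D.c D.d) D.v := by
  refine (mul_inv_eq_iff_eq_mul.1 ?_).symm
  rw [← Equiv.swap_apply_apply, (D.hfix _).2 (.inl rfl), (D.hfix _).2 (.inr rfl)]

theorem coord_one_mem_cent (hW : Wev m 2 ≤ G) {t : Perm (Fin m)} (ht : sign t = 1) :
    coord (1 : Fin 2) t ∈ D.cent G :=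
  D.mem_cent.2 ⟨hW (coord_mem_Wev_of_sign 1 ht), coord_comm (by decide) _ _⟩

theorem swap_coord_mem_cent (hW : Wev m 2 ≤ G) {t : Perm (Fin m)} (ht : sign t = -1) :
    coord (0 : Fin 2) (Equiv.swap D.c D.d) * coord (1 : Fin 2) t ∈ D.cent G := by
  refine D.mem_cent.2 ⟨hW (mem_Wev.2 ⟨mul_mem (coord_mem_W _ _) (coord_mem_W _ _), .inr ?_⟩),
    (D.CD_swap_comm.map (coord (0 : Fin 2))).mul_left (coord_comm (by decide) _ _)⟩
  rw [map_mul, sign_coord_of_odd D.hm, sign_coord_of_odd D.hm, ht, Perm.sign_swap D.hcd]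
  decide

/-- Each kind of pair in the fixed set is one orbit. -/
theorem exists_move (hW : Wev m 2 ≤ G) {f h f' h' : Pt m 2} (hf : D.CD (f 0)) (hh : D.CD (h 0))
    (hf' : D.CD (f' 0)) (hh' : D.CD (h' 0)) (h0 : f 0 = h 0 ↔ f' 0 = h' 0)
    (h1 : f 1 = h 1 ↔ f' 1 = h' 1) : ∃ g ∈ D.cent G, g f = f' ∧ g h = h' := by
  have hm := D.hm5
  have : Nontrivial (Fin m) := ⟨⟨D.c, D.d, D.hcd⟩⟩
  have hex : ∀ s : ℤˣ, ∃ t : Perm (Fin m), sign t = s ∧ t (f 1) = f' 1 ∧ t (h 1) = h' 1 := by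
    intro s
    by_cases e : f 1 = h 1
    · obtain ⟨y, hy⟩ := exists_ne (f 1)
      obtain ⟨z, hz⟩ := exists_ne (f' 1)
      · obtain ⟨t, ht, e1, -⟩ := exists_perm_two_sign (by omega) hy.symm hz.symm s
        exact ⟨t, ht, e1, by rw [← e, e1, h1.1 e]⟩
    · exact exists_perm_two_sign (by omega) e (fun x => e (h1.2 x)) s
  by_cases e : f 0 = f' 0
  · obtain ⟨t, ht, e1, e2⟩ := hex 1
    refine ⟨_, D.coord_one_mem_cent hW ht, pt_ext ?_ ?_, pt_ext ?_ ?_⟩
    · simp [coord_apply, e]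
    · simp [coord_apply, e1]
    · have : h 0 = h' 0 := by
        by_cases e' : f 0 = h 0
        · rw [← e', e, h0.1 e']
        · exact eq_of_two (x := D.c) (y := D.d) hh' hf' hh
            (fun x => e' (h0.2 x)) (fun x => e' (x.trans e.symm).symm)
      simp [coord_apply, this]
    · simp [coord_apply, e2]
  · obtain ⟨t, ht, e1, e2⟩ := hex (-1)
    have hs : ∀ {x x' : Fin m}, D.CD x → D.CD x' → x ≠ x' → Equiv.swap D.c D.d x = x' := by
      rintro x x' (rfl | rfl) (rfl | rfl) hne <;> simp_all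
    refine ⟨_, D.swap_coord_mem_cent hW ht, pt_ext ?_ ?_, pt_ext ?_ ?_⟩
    · simp [coord_apply, hs hf hf' e]
    · simp [coord_apply, e1]
    · have : h 0 ≠ h' 0 := fun x => by
        by_cases e' : f 0 = h 0
        · exact e ((e'.trans x).trans (h0.1 e').symm)
        · exact e (eq_of_two (x := D.c) (y := D.d) hf' hh' hf
            (fun y => e' (h0.2 y.symm)) (fun y => e' (y.trans x.symm)))
      simp [coord_apply, hs hh hh' this]
    · simp [coord_apply, e2]

/-- The label of a row outside the fixed set. -/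
def lab (g : Perm (Pt m 2)) (y : Fin m) : Fin m := g ![D.o, y] 1

theorem lab_eq {g : Perm (Pt m 2)} (hg : g ∈ D.cent G) {f : Pt m 2} (hf : ¬ D.CD (f 0)) :
    g f 1 = D.lab g (f 1) := by
  obtain ⟨i, hi⟩ := D.exists_pow D.not_CD_o hf
  have e : f = coord (0 : Fin 2) (D.v ^ i) ![D.o, f 1] := by
    apply pt_ext <;> simp [coord_apply, hi, -map_zpow]
  have hc : Commute g (coord (0 : Fin 2) (D.v ^ i)) := by
    rw [map_zpow]; exact (D.mem_cent.1 hg).2.zpow_right i
  rw [e, ← Perm.mul_apply, hc.eq, Perm.mul_apply]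
  simp [coord_apply, lab, -map_zpow]

theorem lab_mul {g g' : Perm (Pt m 2)} (hg : g ∈ D.cent G) (hg' : g' ∈ D.cent G) (y : Fin m) :
    D.lab (g * g') y = D.lab g (D.lab g' y) :=
  D.lab_eq hg ((not_congr (D.CD_cent hg' _)).2 (by simpa using D.not_CD_o))

theorem lab_one (y : Fin m) : D.lab 1 y = y := rfl

theorem lab_coord (t : Perm (Fin m)) (y : Fin m) : D.lab (coord (1 : Fin 2) t) y = t y := by
  simp [lab, coord_apply]

/-- The rows outside the fixed set, permuted. -/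
def labPerm {g : Perm (Pt m 2)} (hg : g ∈ D.cent G) : Perm (Fin m) where
  toFun := D.lab g
  invFun := D.lab g⁻¹
  left_inv y := by rw [← D.lab_mul (inv_mem hg) hg, inv_mul_cancel, lab_one]
  right_inv y := by rw [← D.lab_mul hg (inv_mem hg), mul_inv_cancel, lab_one]

/-- The kernel of the action on those rows. -/
def labKer (G : Subgroup (Perm (Pt m 2))) : Subgroup (Perm (Pt m 2)) where
  carrier := {g | g ∈ D.cent G ∧ ∀ y, D.lab g y = y}
  mul_mem' {a b} ha hb := ⟨mul_mem ha.1 hb.1, fun y => by rw [D.lab_mul ha.1 hb.1, hb.2, ha.2]⟩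
  one_mem' := ⟨one_mem _, D.lab_one⟩
  inv_mem' {a} ha := ⟨inv_mem ha.1, fun y => by
    conv_lhs => rw [← ha.2 y, ← D.lab_mul (inv_mem ha.1) ha.1, inv_mul_cancel]
    rfl⟩

theorem labKer_conj {g k : Perm (Pt m 2)} (hg : g ∈ D.cent G) (hk : k ∈ D.labKer G) :
    g * k * g⁻¹ ∈ D.labKer G :=
  ⟨mul_mem (mul_mem hg hk.1) (inv_mem hg), fun y => by
    rw [D.lab_mul (mul_mem hg hk.1) (inv_mem hg), D.lab_mul hg hk.1, hk.2,
      ← D.lab_mul hg (inv_mem hg), mul_inv_cancel, lab_one]⟩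

theorem pow_p_fix {z : Perm (Pt m 2)} (hz : z ∈ D.labKer G) {f : Pt m 2} (hf : ¬ D.CD (f 0)) :
    (z ^ D.p) f = f := by
  obtain ⟨i, hi⟩ := D.exists_pow hf ((not_congr (D.CD_cent hz.1 f)).2 hf)
  have e : z f = coord (0 : Fin 2) (D.v ^ i) f := by
    apply pt_ext
    · simp [coord_apply, hi, -map_zpow]
    · rw [D.lab_eq hz.1 hf, hz.2]; simp [coord_apply, -map_zpow]
  have hc : Commute z (coord (0 : Fin 2) (D.v ^ i)) := by
    rw [map_zpow]; exact (D.mem_cent.1 hz.1).2.zpow_right i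
  have h : ∀ n : ℕ, (z ^ n) f = (coord (0 : Fin 2) (D.v ^ i) ^ n) f := by
    intro n
    induction n with
    | zero => rfl
    | succ l ih =>
      rw [pow_succ, Perm.mul_apply, e, ← Perm.mul_apply, (hc.pow_left l).eq, Perm.mul_apply,
        ih, ← Perm.mul_apply, ← pow_succ']
  have h1 : (D.v ^ i) ^ D.p = 1 := by
    rw [← zpow_natCast, ← zpow_mul, mul_comm, zpow_mul, zpow_natCast, D.hvp, one_zpow]
  rw [h, ← map_pow, h1, map_one, Perm.one_apply]

/-- The centraliser is not two transitive on the fixed set. -/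
theorem not_two_trans (hW : Wev m 2 ≤ G)
    (h2 : ∀ a b x y : Pt m 2, a ≠ b → x ≠ y → ∃ g ∈ G, g a = x ∧ g b = y)
    (hA : ¬ alternatingGroup (Pt m 2) ≤ G)
    (hC : ∀ f h f' h' : Pt m 2, D.CD (f 0) → D.CD (h 0) → D.CD (f' 0) → D.CD (h' 0) →
      f ≠ h → f' ≠ h' → ∃ g ∈ D.cent G, g f = f' ∧ g h = h') : False := by
  classical
  have hm := D.hm5
  let F : Set (Pt m 2) := {f | D.CD (f 0)}
  have hF : F.ncard = 2 * m := by
    let e : Bool × Fin m → Pt m 2 := fun x => ![if x.1 then D.c else D.d, x.2]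
    have he : Function.Injective e := by
      rintro ⟨a, y⟩ ⟨b, z⟩ h
      have ha := congrFun h 0
      have hy := congrFun h 1
      cases a <;> cases b <;> simp_all [e, D.hcd, D.hcd.symm]
    have hr : F = Set.range e := by
      ext f
      constructor
      · rintro (h | h)
        · exact ⟨(true, f 1), pt_ext (by simp [e, h]) (by simp [e])⟩
        · exact ⟨(false, f 1), pt_ext (by simp [e, h]) (by simp [e])⟩
      · rintro ⟨⟨a, y⟩, rfl⟩
        cases a <;> simp [e, F, CD]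
    rw [hr, Set.ncard_range_of_injective he]
    simp
  by_cases hall : ∀ k ∈ D.labKer G, ∀ f ∈ F, k f = f
  · -- the kernel fixes the fixed set
    obtain ⟨y', hy'⟩ : ∃ y', y' ≠ D.o := ⟨D.c, fun e => D.not_CD_o (.inl e.symm)⟩
    obtain ⟨t, ht, ht1, -⟩ := exists_perm_two_sign (by omega) hy'.symm hy' 1
    obtain ⟨g, hg, hg1, hg2⟩ := hC ![D.c, D.o] ![D.c, y'] ![D.c, D.o] ![D.d, D.o]
      (.inl rfl) (.inl rfl) (.inl rfl) (.inr rfl) (fun e => hy'.symm (congrFun e 1))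
      (fun e => D.hcd (congrFun e 0))
    let s : Perm (Fin m) := D.labPerm hg * t * (D.labPerm hg)⁻¹
    have hs : sign s = 1 := by
      simp only [s, map_mul, map_inv, ht]; simp
    have hn := D.coord_one_mem_cent hW (G := G) ht
    have hn' := D.coord_one_mem_cent hW (G := G) hs
    have hgn : g * coord (1 : Fin 2) t * g⁻¹ ∈ D.cent G :=
      mul_mem (mul_mem hg hn) (inv_mem hg)
    have hk : g * coord (1 : Fin 2) t * g⁻¹ * (coord (1 : Fin 2) s)⁻¹ ∈ D.labKer G := by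
      refine ⟨mul_mem hgn (inv_mem hn'), fun y => ?_⟩
      rw [D.lab_mul hgn (inv_mem hn'), ← map_inv, lab_coord, D.lab_mul (mul_mem hg hn)
        (inv_mem hg), D.lab_mul hg hn, lab_coord]
      have hl : ∀ x, D.lab g⁻¹ x = (D.labPerm hg)⁻¹ x := fun x => rfl
      rw [hl]
      show D.labPerm hg _ = y
      simp [s, Perm.mul_apply]
    have h := hall _ hk (coord (1 : Fin 2) s ![D.c, D.o]) (by simp [F, CD, coord_apply])
    rw [Perm.mul_apply, Perm.coe_inv, Equiv.symm_apply_apply, Perm.mul_apply,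
      Perm.mul_apply, Perm.inv_eq_iff_eq.2 hg1.symm] at h
    have h' : coord (1 : Fin 2) t ![D.c, D.o] = ![D.c, y'] :=
      pt_ext (by simp [coord_apply]) (by simp [coord_apply, ht1])
    rw [h', hg2] at h
    exact D.hcd (by simpa [coord_apply] using (congrFun h 0).symm)
  push Not at hall
  obtain ⟨z, hz, f₀, hf₀, hzf⟩ := hall
  have hf₁ : D.CD (z f₀ 0) := (D.CD_cent hz.1 f₀).2 hf₀
  by_cases hp : ∃ w ∈ D.labKer G, ∃ f ∈ F, (w ^ D.p) f ≠ f
  · -- a Jordan set
    obtain ⟨w, hw, f₂, hf₂, hwf⟩ := hp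
    have hfix : ∀ f, f ∉ F → (w ^ D.p) f = f := fun f hf => D.pow_p_fix hw hf
    have hwF : (w ^ D.p) f₂ ∈ F := (D.CD_cent (pow_mem hw.1 _) f₂).2 hf₂
    have htr : ∀ f h : Pt m 2, f ∈ F → h ∈ F → ∃ g : G, (∀ x, x ∉ F → (g : Perm _) x = x) ∧
        (g : Perm _) f = h := by
      intro f h hf hh
      rcases eq_or_ne f h with rfl | hne
      · exact ⟨1, fun _ _ => rfl, rfl⟩
      obtain ⟨g, hg, e1, e2⟩ := hC f₂ _ f h hf₂ hwF hf hh hwf.symm hne
      refine ⟨⟨g * w ^ D.p * g⁻¹, mul_mem (mul_mem (D.mem_cent.1 hg).1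
        (pow_mem (D.mem_cent.1 hw.1).1 _)) (inv_mem (D.mem_cent.1 hg).1)⟩, fun x hx => ?_, ?_⟩
      · have hx' : g⁻¹ x ∉ F := (not_congr (D.CD_cent (inv_mem hg) x)).2 hx
        show g ((w ^ D.p) (g⁻¹ x)) = x
        rw [hfix _ hx']; simp
      · show g ((w ^ D.p) (g⁻¹ f)) = h
        rw [Perm.inv_eq_iff_eq.2 e1.symm, e2]
    refine hA fun σ hσ => ?_
    have hqp : ∀ N : Subgroup G, N.Normal → N ≠ ⊥ → MulAction.IsPretransitive N (Pt m 2) := by
      intro N hN hne
      obtain ⟨n, hn, hn1⟩ := (Subgroup.bot_or_exists_ne_one N).resolve_left hne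
      obtain ⟨a, ha⟩ : ∃ a, (n : Perm (Pt m 2)) a ≠ a := by
        by_contra hcon
        push Not at hcon
        exact hn1 (Subtype.ext (Equiv.ext hcon))
      refine ⟨fun x y => ?_⟩
      rcases eq_or_ne x y with rfl | hne'
      · exact ⟨1, one_smul _ _⟩
      obtain ⟨g, hg, e1, e2⟩ := h2 a _ x y ha.symm hne'
      refine ⟨⟨⟨g, hg⟩ * n * ⟨g, hg⟩⁻¹, hN.conj_mem n hn _⟩, ?_⟩
      show g ((n : Perm (Pt m 2)) (g⁻¹ x)) = y
      rw [Perm.inv_eq_iff_eq.2 e1.symm, e2]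
    have hcard : 2 * F.ncard < Fintype.card (Pt m 2) := by
      rw [Fintype.card_fun, Fintype.card_fin, Fintype.card_fin, sq, hF]
      nlinarith
    have hJ : MulAction.IsPretransitive (fixingSubgroup G Fᶜ)
        (SubMulAction.ofFixingSubgroup G Fᶜ) := by
      refine ⟨fun a b => ?_⟩
      have hmem : ∀ x : SubMulAction.ofFixingSubgroup G Fᶜ, (x : Pt m 2) ∈ F := fun x => by
        simpa using (SubMulAction.mem_ofFixingSubgroup_iff G).1 x.2
      obtain ⟨g, hg, e⟩ := htr _ _ (hmem a) (hmem b)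
      refine ⟨⟨g, ?_⟩, Subtype.ext e⟩
      rw [mem_fixingSubgroup_iff]
      exact fun x hx => hg x hx
    obtain ⟨x, hx⟩ := Cfsg.Agent.S3620.result (G := G) (Ω := Pt m 2) hqp F (by omega) hcard hJ σ
      (Perm.mem_alternatingGroup.1 hσ)
    have hxσ : (x : Perm (Pt m 2)) = σ := hx
    exact hxσ ▸ x.2
  · -- exponent `p`
    push Not at hp
    have hexp : IsPGroup D.p (D.labKer G) := fun w => ⟨1, Subtype.ext (Equiv.ext fun f => by
      rw [pow_one]
      by_cases hf : D.CD (f 0)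
      · exact hp w w.2 f hf
      · exact D.pow_p_fix w.2 hf)⟩
    have := Fact.mk D.hp
    obtain ⟨n, hn⟩ := hexp.card_orbit (f₀ : Pt m 2)
    have horb : MulAction.orbit (D.labKer G) f₀ = F := by
      ext f
      constructor
      · rintro ⟨k, rfl⟩
        exact (D.CD_cent k.2.1 f₀).2 hf₀
      · intro hf
        rcases eq_or_ne f f₀ with rfl | hne
        · exact MulAction.mem_orbit_self _
        obtain ⟨g, hg, e1, e2⟩ := hC f₀ _ f₀ f hf₀ hf₁ hf₀ hf hzf.symm hne.symm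
        refine ⟨⟨g * z * g⁻¹, D.labKer_conj hg hz⟩, ?_⟩
        show g (z (g⁻¹ f₀)) = f
        rw [Perm.inv_eq_iff_eq.2 e1.symm, e2]
    rw [Nat.card_coe_set_eq, horb, hF] at hn
    have := (D.hp2.pow (n := n))
    rw [← hn] at this
    exact (Nat.not_even_iff_odd.2 this) (even_two_mul m)

/-- One of the two partitions of the fixed set is kept. -/
theorem pres_or (hW : Wev m 2 ≤ G)
    (h2 : ∀ a b x y : Pt m 2, a ≠ b → x ≠ y → ∃ g ∈ G, g a = x ∧ g b = y)
    (hA : ¬ alternatingGroup (Pt m 2) ≤ G) :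
    ∃ i : Fin 2, ∀ g ∈ D.cent G, ∀ f h : Pt m 2, D.CD (f 0) → D.CD (h 0) → f i = h i →
      g f i = g h i := by
  by_contra hcon
  push Not at hcon
  obtain ⟨gS, hgS, fS, hS, hfS, hhS, eS, nS⟩ := hcon 0
  obtain ⟨gP, hgP, fP, hP, hfP, hhP, eP, nP⟩ := hcon 1
  let R : Pt m 2 → Pt m 2 → Pt m 2 → Pt m 2 → Prop := fun f h f' h' =>
    ∃ g ∈ D.cent G, g f = f' ∧ g h = h'
  have rtrans : ∀ {a b a' b' a'' b''}, R a b a' b' → R a' b' a'' b'' → R a b a'' b'' := by
    rintro a b a' b' a'' b'' ⟨g, hg, rfl, rfl⟩ ⟨g', hg', rfl, rfl⟩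
    exact ⟨g' * g, mul_mem hg' hg, rfl, rfl⟩
  have rsymm : ∀ {a b a' b'}, R a b a' b' → R a' b' a b := by
    rintro a b a' b' ⟨g, hg, rfl, rfl⟩
    exact ⟨g⁻¹, inv_mem hg, g.symm_apply_apply a, g.symm_apply_apply b⟩
  have hco : D.c ≠ D.o := fun e => D.not_CD_o (.inl e.symm)
  set xa : Pt m 2 := ![D.c, D.c] with hxa
  set xb : Pt m 2 := ![D.d, D.o] with hxb
  have hxa0 : D.CD (xa 0) := .inl rfl
  have hxb0 : D.CD (xb 0) := .inr rfl
  -- pairs differing in both coordinates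
  have hX : ∀ f h, D.CD (f 0) → D.CD (h 0) → f 0 ≠ h 0 → f 1 ≠ h 1 → R f h xa xb :=
    fun f h hf hh n0 n1 => D.exists_move hW hf hh hxa0 hxb0
      (iff_of_false n0 (by simpa [xa, xb] using D.hcd)) (iff_of_false n1 (by simpa [xa, xb] using hco))
  -- those with a common second coordinate
  have hPP : ∀ f h, D.CD (f 0) → D.CD (h 0) → f ≠ h → f 1 = h 1 → R f h fP hP :=
    fun f h hf hh hne e => D.exists_move hW hf hh hfP hhP
      (iff_of_false (fun e0 => hne (pt_ext e0 e)) (fun e0 => nP (by rw [pt_ext e0 eP])))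
      (iff_of_true e eP)
  have hSS : ∀ f h, D.CD (f 0) → D.CD (h 0) → f ≠ h → f 0 = h 0 → R f h fS hS :=
    fun f h hf hh hne e => D.exists_move hW hf hh hfS hhS (iff_of_true e eS)
      (iff_of_false (fun e1 => hne (pt_ext e e1)) (fun e1 => nS (by rw [pt_ext eS e1])))
  have hgP0 : D.CD (gP fP 0) ∧ D.CD (gP hP 0) :=
    ⟨(D.CD_cent hgP fP).2 hfP, (D.CD_cent hgP hP).2 hhP⟩
  have hgS0 : D.CD (gS fS 0) ∧ D.CD (gS hS 0) :=
    ⟨(D.CD_cent hgS fS).2 hfS, (D.CD_cent hgS hS).2 hhS⟩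
  have hneP : gP fP ≠ gP hP := fun e => nP (by rw [e])
  have hneS : gS fS ≠ gS hS := fun e => nS (by rw [e])
  -- some pair of the third kind moves to another kind
  have hmerge : R fP hP xa xb ∧ R fS hS xa xb := by
    by_cases e0 : gP fP 0 = gP hP 0
    · -- a common neighbour
      obtain ⟨z, hz⟩ : ∃ z, z ∉ ({gP fP 1, gP hP 1} : Finset (Fin m)) := by
        by_contra hcon
        push Not at hcon
        have := Finset.card_le_card (fun x (_ : x ∈ Finset.univ) => hcon x)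
        have := Finset.card_le_two (a := gP fP 1) (b := gP hP 1)
        simp only [Finset.card_univ, Fintype.card_fin] at *
        have := D.hm5
        omega
      simp only [Finset.mem_insert, Finset.mem_singleton, not_or] at hz
      set u : Pt m 2 := ![Equiv.swap D.c D.d (gP fP 0), z] with hu
      have hu0 : D.CD (u 0) ∧ u 0 ≠ gP fP 0 := by
        rcases hgP0.1 with e | e <;> simp [hu, e, CD, D.hcd, D.hcd.symm]
      have hu' : D.CD (gP⁻¹ u 0) := (D.CD_cent (inv_mem hgP) u).2 hu0.1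
      have r1 : R (gP fP) u xa xb := hX _ _ hgP0.1 hu0.1 hu0.2.symm (by simpa [hu] using Ne.symm hz.1)
      have r2 : R (gP hP) u xa xb :=
        hX _ _ hgP0.2 hu0.1 (e0 ▸ hu0.2.symm) (by simpa [hu] using Ne.symm hz.2)
      have rS : R fP hP fS hS :=
        rtrans ⟨gP, hgP, rfl, rfl⟩ (hSS _ _ hgP0.1 hgP0.2 hneP e0)
      have key : ∀ w, D.CD (w 0) → R w (gP⁻¹ u) xa xb → w 0 = gP⁻¹ u 0 →
          R fS hS xa xb := fun w hw r e => by
        refine rtrans (rsymm (hSS w (gP⁻¹ u) hw hu' ?_ e)) r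
        intro e'
        obtain ⟨g, -, e1, e2⟩ := r
        simpa [xa, xb, D.hcd] using congrFun (e1.symm.trans ((congrArg g e').trans e2)) 0
      have r1' : R fP (gP⁻¹ u) xa xb := rtrans ⟨gP, hgP, rfl, by simp⟩ r1
      have r2' : R hP (gP⁻¹ u) xa xb := rtrans ⟨gP, hgP, rfl, by simp⟩ r2
      have hS' : R fS hS xa xb := by
        by_cases e' : fP 0 = gP⁻¹ u 0
        · exact key fP hfP r1' e'
        · refine key hP hhP r2' (eq_of_two (x := D.c) (y := D.d) hu' hfP hhP e' ?_)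
          exact fun e'' => nP (by rw [pt_ext e''.symm eP])
      exact ⟨rtrans rS hS', hS'⟩
    · have hP' : R fP hP xa xb :=
        rtrans ⟨gP, hgP, rfl, rfl⟩ (hX _ _ hgP0.1 hgP0.2 e0 nP)
      refine ⟨hP', rtrans ⟨gS, hgS, rfl, rfl⟩ ?_⟩
      by_cases e1 : gS fS 1 = gS hS 1
      · exact rtrans (hPP _ _ hgS0.1 hgS0.2 hneS e1) hP'
      · exact hX _ _ hgS0.1 hgS0.2 nS e1
  have hall : ∀ f h, D.CD (f 0) → D.CD (h 0) → f ≠ h → R f h xa xb := fun f h hf hh hne => by
    by_cases e0 : f 0 = h 0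
    · exact rtrans (hSS f h hf hh hne e0) hmerge.2
    by_cases e1 : f 1 = h 1
    · exact rtrans (hPP f h hf hh hne e1) hmerge.1
    exact hX f h hf hh e0 e1
  exact D.not_two_trans hW h2 hA fun f h f' h' hf hh hf' hh' hne hne' =>
    rtrans (hall f h hf hh hne) (rsymm (hall f' h' hf' hh' hne'))

end TwoData

end Cfsg.Agent.ProdAction
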