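import Cfsg.Agent.ProdAction.TwoCent

/-!
The case `k = 2`: the translations are a Sylow subgroup of a two point stabiliser, which forbids
two transitivity.
-/

set_option autoImplicit false

namespace Cfsg.Agent.ProdAction

open Equiv Equiv.Perm

namespace TwoData

variable {m : ℕ} (D : TwoData m) {G : Subgroup (Perm (Pt m 2))}

/-- The group generated by the two coordinate cycles. -/
def trans : Subgroup (Perm (Pt m 2)) where
  carrier := {x | ∃ i j : ℤ, x = D.T (i, i, i) (j, j, j)}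
  mul_mem' := by
    rintro _ _ ⟨i, j, rfl⟩ ⟨i', j', rfl⟩
    exact ⟨i + i', j + j', D.T_mul _ _ _ _⟩
  one_mem' := ⟨0, 0, D.T_zero.symm⟩
  inv_mem' := by
    rintro _ ⟨i, j, rfl⟩
    exact ⟨-i, -j, D.T_inv _ _⟩

theorem coord_mem_trans (j : Fin 2) (k : ℤ) : coord j (D.v ^ k) ∈ D.trans := by
  fin_cases j
  · exact ⟨k, 0, D.coord_zero_pow k⟩
  · exact ⟨0, k, D.coord_one_pow k⟩

theorem trans_le (hW : Wev m 2 ≤ G) : D.trans ≤ G := by
  rintro _ ⟨i, j, rfl⟩
  have h : ∀ (l : Fin 2) (k : ℤ), coord l (D.v ^ k) ∈ G := fun l k => by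
    rw [map_zpow]; exact zpow_mem (hW (coord_mem_Wev_of_sign l D.sign_v)) k
  have := mul_mem (h 0 i) (h 1 j)
  rwa [D.coord_zero_pow, D.coord_one_pow, D.T_mul, add_zero, zero_add] at this

theorem coord_v_ne_one (j : Fin 2) : coord j D.v ≠ 1 := fun e => by
  have := (D.coord_fix_iff j fun _ => D.o).1 (by rw [e]; rfl)
  exact D.not_CD_o this

theorem coord_pow_p (j : Fin 2) : coord j D.v ^ D.p = 1 := by rw [← map_pow, D.hvp, map_one]

theorem coord_zpow_inj {j : Fin 2} {a b : ℤ} (h : coord j D.v ^ a = coord j D.v ^ b) :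
    (D.p : ℤ) ∣ a - b := by
  have : coord j D.v ^ (a - b) = 1 := by rw [zpow_sub, h, mul_inv_cancel]
  refine D.dvd_of_fix D.hvo ?_
  have h' := congrFun (Equiv.ext_iff.1 this fun _ => D.o) j
  rw [← map_zpow, coord_apply, Function.update_self, Perm.one_apply] at h'
  exact h'

theorem coord_zpow_ne {i j : Fin 2} (hij : i ≠ j) {a b : ℤ} (h : coord i D.v ^ a = coord j D.v ^ b) :
    (D.p : ℤ) ∣ a := by
  refine D.dvd_of_fix D.hvo ?_
  have h' := congrFun (Equiv.ext_iff.1 h fun _ => D.o) i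
  rw [← map_zpow, ← map_zpow, coord_apply, coord_apply, Function.update_self,
    Function.update_of_ne hij] at h'
  exact h'

/-- A conjugate of a coordinate cycle among the translations is one along a coordinate. -/
theorem conj_dichotomy {g : Perm (Pt m 2)} {j : Fin 2}
    (h : g * coord j D.v * g⁻¹ ∈ D.trans) :
    ∃ (l : Fin 2) (k : ℤ), ¬ (D.p : ℤ) ∣ k ∧ g * coord j D.v * g⁻¹ = coord l D.v ^ k := by
  classical
  obtain ⟨a, b, hab⟩ := h
  by_cases ha : (D.p : ℤ) ∣ a
  · have e : g * coord j D.v * g⁻¹ = coord (1 : Fin 2) D.v ^ b := by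
      rw [hab, ← map_zpow, D.coord_one_pow]
      exact D.T_congr (by simpa [Cong] using ha) (by simp [Cong])
    refine ⟨1, b, fun hb => D.coord_v_ne_one j ?_, e⟩
    rw [← map_zpow, D.zpow_eq_of_dvd (b := 0) (by simpa using hb), zpow_zero, map_one,
      mul_inv_eq_one, mul_eq_left] at e
    exact e
  by_cases hb : (D.p : ℤ) ∣ b
  · refine ⟨0, a, ha, ?_⟩
    rw [hab, ← map_zpow, D.coord_zero_pow]
    exact D.T_congr (by simp [Cong]) (by simpa [Cong] using hb)
  exfalso
  let corner : Finset (Pt m 2) := {![D.c, D.c], ![D.c, D.d], ![D.d, D.c], ![D.d, D.d]}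
  let ι : Fin m → Pt m 2 := fun y => g fun i => if i = j then D.c else y
  have hι : Function.Injective ι := fun y y' e => by
    obtain ⟨i, hi⟩ := exists_ne j
    simpa [hi] using congrFun (g.injective e) i
  have hmem : ∀ y, ι y ∈ corner := fun y => by
    have hfix : D.T (a, a, a) (b, b, b) (ι y) = ι y := by
      rw [← hab]
      show g (coord j D.v (g⁻¹ (g _))) = g _
      rw [Perm.coe_inv, Equiv.symm_apply_apply, (D.coord_fix_iff j _).2 (by simp [CD])]
    have h0 := congrFun hfix 0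
    have h1 := congrFun hfix 1
    simp [sel] at h0 h1
    have c0 : D.CD (ι y 0) := by
      by_contra h; exact ha (D.dvd_of_fix (fun e => h ((D.hfix _).1 e)) h0)
    have c1 : D.CD (ι y 1) := by
      by_contra h; exact hb (D.dvd_of_fix (fun e => h ((D.hfix _).1 e)) h1)
    simp only [corner, Finset.mem_insert, Finset.mem_singleton]
    rcases c0 with e0 | e0 <;> rcases c1 with e1 | e1
    · exact .inl (pt_ext e0 e1)
    · exact .inr (.inl (pt_ext e0 e1))
    · exact .inr (.inr (.inl (pt_ext e0 e1)))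
    · exact .inr (.inr (.inr (pt_ext e0 e1)))
  have h4 : (Finset.univ.image ι).card ≤ corner.card :=
    Finset.card_le_card (by simpa [Finset.image_subset_iff] using hmem)
  rw [Finset.card_image_of_injective _ hι, Finset.card_univ, Fintype.card_fin] at h4
  have : corner.card ≤ 4 := Finset.card_le_four
  have := D.hm5
  omega

theorem commute_of_norm {z : Perm (Pt m 2)} {e : ℕ} (hz : z ^ D.p ^ e = 1)
    (hn : ∀ j : Fin 2, z * coord j D.v * z⁻¹ ∈ D.trans) (j : Fin 2) :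
    Commute z (coord j D.v) := by
  have hp := Nat.prime_iff_prime_int.1 D.hp
  choose L K hK hL using fun i => D.conj_dichotomy (hn i)
  have hconj : ∀ (i : Fin 2) (a : ℤ),
      z * coord i D.v ^ a * z⁻¹ = coord (L i) D.v ^ (K i * a) := fun i a => by
    rw [← conj_zpow, hL i, zpow_mul]
  have hLj : L j = j := by
    by_contra hne
    obtain ⟨x, y, hxy⟩ := hp.coprime_iff_not_dvd.2 (hK j)
    -- the other cycle must come back
    have hLi : L (L j) = j := by
      by_contra h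
      have h2 : L (L j) = L j := by
        have : ∀ a b c : Fin 2, b ≠ a → c ≠ a → c = b := by decide
        exact this j (L j) (L (L j)) hne h
      obtain ⟨x', y', hxy'⟩ := hp.coprime_iff_not_dvd.2 (hK (L j))
      have h3 : z * coord (L j) D.v ^ (y' * K j) * z⁻¹ = z * coord j D.v * z⁻¹ := by
        rw [hconj, h2, hL j, ← map_zpow, ← map_zpow]
        exact congrArg _ (D.zpow_eq_of_dvd ⟨-(K j * x'), by linear_combination (K j) * hxy'⟩)
      have h4 : coord (L j) D.v ^ (y' * K j) = coord j D.v ^ (1 : ℤ) := by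
        rw [zpow_one]; exact mul_left_cancel (mul_right_cancel h3)
      have := D.coord_zpow_ne (Ne.symm hne) h4.symm
      exact hp.not_dvd_one (by simpa using this)
    -- so the square, hence `z`, keeps the coordinate
    have hsq : ∀ (n : ℕ), ∃ a : ℤ, (z * z) ^ n * coord j D.v * ((z * z) ^ n)⁻¹ =
        coord j D.v ^ a := by
      intro n
      induction n with
      | zero => exact ⟨1, by simp⟩
      | succ l ih =>
        obtain ⟨a, ha⟩ := ih
        refine ⟨K (L j) * (K j * a), ?_⟩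
        calc _ = z * (z * ((z * z) ^ l * coord j D.v * ((z * z) ^ l)⁻¹) * z⁻¹) * z⁻¹ := by
              simp only [pow_succ', mul_inv_rev, mul_assoc]
          _ = _ := by rw [ha, hconj, hconj, hLi]
    obtain ⟨k, hk⟩ := D.hp2.pow (n := e)
    obtain ⟨a, ha⟩ := hsq (k + 1)
    rw [← sq, ← pow_mul, show 2 * (k + 1) = D.p ^ e + 1 by omega, pow_succ, hz, one_mul, hL j]
      at ha
    exact hK j (D.coord_zpow_ne hne ha)
  have hpow : ∀ n : ℕ, z ^ n * coord j D.v * (z ^ n)⁻¹ = coord j D.v ^ (K j ^ n) := by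
    intro n
    induction n with
    | zero => simp
    | succ l ih =>
      calc _ = z * (z ^ l * coord j D.v * (z ^ l)⁻¹) * z⁻¹ := by rw [pow_succ']; group
        _ = _ := by rw [ih, hconj, hLj, pow_succ']
  have h1 := hpow (D.p ^ e)
  rw [hz, one_mul, inv_one, mul_one] at h1
  have h2 := D.coord_zpow_inj ((zpow_one _).trans h1)
  have : Fact D.p.Prime := ⟨D.hp⟩
  have h3 : ((K j : ℤ) : ZMod D.p) = 1 := by
    have h4 := (ZMod.intCast_eq_intCast_iff_dvd_sub (K j ^ (D.p ^ e)) 1 D.p).2 h2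
    rwa [Int.cast_pow, Int.cast_one, ZMod.pow_card_pow] at h4
  have h5 : D.v ^ K j = D.v := by
    refine (D.zpow_eq_of_dvd ?_).trans (zpow_one _)
    rw [← ZMod.intCast_zmod_eq_zero_iff_dvd, Int.cast_sub, h3, Int.cast_one, sub_self]
  have h6 := hL j
  rw [hLj, ← map_zpow, h5] at h6
  exact mul_inv_eq_iff_eq_mul.1 h6

/-- The stabiliser of the two diagonal fixed points. -/
def stab (G : Subgroup (Perm (Pt m 2))) : Subgroup (Perm (Pt m 2)) where
  carrier := {g | g ∈ G ∧ g ![D.c, D.c] = ![D.c, D.c] ∧ g ![D.d, D.d] = ![D.d, D.d]}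
  mul_mem' {x y} hx hy :=
    ⟨mul_mem hx.1 hy.1, by rw [Perm.mul_apply, hy.2.1, hx.2.1],
      by rw [Perm.mul_apply, hy.2.2, hx.2.2]⟩
  one_mem' := ⟨one_mem _, rfl, rfl⟩
  inv_mem' {x} hx :=
    ⟨inv_mem hx.1, Perm.inv_eq_iff_eq.2 hx.2.1.symm, Perm.inv_eq_iff_eq.2 hx.2.2.symm⟩

theorem trans_le_stab (hW : Wev m 2 ≤ G) : D.trans ≤ D.stab G := fun x hx => by
  refine ⟨D.trans_le hW hx, ?_⟩
  obtain ⟨i, j, rfl⟩ := hx
  constructor <;>
  · apply pt_ext <;> simp [sel, D.v_pow_fix, CD]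

/-- Every `p`-element of the stabiliser is conjugate into the translations. -/
theorem exists_conj_mem_trans (hW : Wev m 2 ≤ G) (hk : D.Kill G)
    {w : Perm (Pt m 2)} (hw : w ∈ D.stab G) (hwp : w ^ D.p = 1) :
    ∃ l ∈ D.stab G, l * w * l⁻¹ ∈ D.trans := by
  have : Fact D.p.Prime := ⟨D.hp⟩
  let E : Subgroup (D.stab G) := D.trans.subgroupOf (D.stab G)
  have hEp : IsPGroup D.p E := fun x => ⟨1, by
    obtain ⟨i, j, hx⟩ : ((x : D.stab G) : Perm (Pt m 2)) ∈ D.trans := x.2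
    refine Subtype.ext (Subtype.ext ?_)
    simp only [SubgroupClass.coe_pow, OneMemClass.coe_one, pow_one, hx]
    have hc : D.T (i, i, i) (j, j, j) = coord (0 : Fin 2) (D.v ^ i) * coord (1 : Fin 2) (D.v ^ j) := by
      rw [D.coord_zero_pow, D.coord_one_pow, D.T_mul, add_zero, zero_add]
    rw [hc, (coord_comm (by decide) _ _).mul_pow, ← map_pow, ← map_pow, ← zpow_natCast,
      ← zpow_natCast (D.v ^ j), ← zpow_mul, ← zpow_mul, mul_comm i, mul_comm j, zpow_mul,
      zpow_mul, zpow_natCast, D.hvp, one_zpow, one_zpow, map_one, map_one, mul_one]⟩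
  obtain ⟨P, hP⟩ := hEp.exists_le_sylow
  have hPE : (P : Subgroup (D.stab G)) ≤ E := by
    by_contra hle
    have hnil : Group.IsNilpotent (P : Subgroup (D.stab G)) := P.2.isNilpotent
    have hlt : E.subgroupOf (P : Subgroup (D.stab G)) < ⊤ := by
      refine lt_top_iff_ne_top.2 fun e => hle ?_
      rwa [Subgroup.subgroupOf_eq_top] at e
    obtain ⟨z, hz, hzE⟩ :=
      SetLike.exists_of_lt (Group.normalizerCondition_of_isNilpotent _ hlt)
    obtain ⟨n, hn⟩ := P.2 z
    have hnorm : ∀ j : Fin 2,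
        ((z : D.stab G) : Perm (Pt m 2)) * coord j D.v * ((z : D.stab G) : Perm (Pt m 2))⁻¹ ∈
          D.trans := fun j => by
      have hjt : coord j D.v ∈ D.trans := by simpa using D.coord_mem_trans j 1
      let x : D.stab G := ⟨coord j D.v, D.trans_le_stab hW hjt⟩
      have hxE : x ∈ E := hjt
      exact (Subgroup.mem_normalizer_iff.1 hz ⟨x, hP hxE⟩).1 hxE
    refine hzE ?_
    have hzc : ((z : D.stab G) : Perm (Pt m 2)) ^ D.p ^ n = 1 := by
      have := congrArg (fun y : (P : Subgroup (D.stab G)) => ((y : D.stab G) : Perm (Pt m 2))) hn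
      simpa using this
    obtain ⟨A, B, hAB⟩ := D.exists_T (D.hp2.pow (n := n)) hzc (D.commute_of_norm hzc hnorm 0)
      (D.commute_of_norm hzc hnorm 1) (z : D.stab G).2.2.1 (z : D.stab G).2.2.2
    show ((z : D.stab G) : Perm (Pt m 2)) ∈ D.trans
    rw [hAB]
    exact D.eq_trans_of_kill hk (hW (coord_mem_Wev_of_sign 0 D.sign_v))
      (hW (coord_mem_Wev_of_sign 1 D.sign_v)) (hAB ▸ (z : D.stab G).2.1)
  have hwP : IsPGroup D.p (Subgroup.zpowers (⟨w, hw⟩ : D.stab G)) := fun x => ⟨1, by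
    obtain ⟨a, ha⟩ := Subgroup.mem_zpowers_iff.1 x.2
    refine Subtype.ext ?_
    rw [SubgroupClass.coe_pow, OneMemClass.coe_one, pow_one, ← ha, ← zpow_natCast, ← zpow_mul,
      mul_comm, zpow_mul, zpow_natCast]
    rw [show (⟨w, hw⟩ : D.stab G) ^ D.p = 1 from Subtype.ext (by simpa using hwp), one_zpow]⟩
  obtain ⟨Q, hQ⟩ := hwP.exists_le_sylow
  obtain ⟨l, hl⟩ := MulAction.exists_smul_eq (D.stab G) Q P
  refine ⟨l, l.2, ?_⟩
  have hmem : l * ⟨w, hw⟩ * l⁻¹ ∈ (P : Subgroup (D.stab G)) := by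
    rw [← hl, Sylow.coe_subgroup_smul]
    exact Subgroup.smul_mem_pointwise_smul _ _ _ (hQ (Subgroup.mem_zpowers _))
  exact hPE hmem

/-- A power of the cycle is conjugate to it. -/
theorem exists_conj_pow {k : ℤ} (hk : ¬ (D.p : ℤ) ∣ k) :
    ∃ u : Perm (Fin m), u * D.v ^ k * u⁻¹ = D.v := by
  obtain ⟨x, y, hxy⟩ := (Nat.prime_iff_prime_int.1 D.hp).coprime_iff_not_dvd.2 hk
  have hfixk : ∀ z, (D.v ^ k) z = z ↔ D.v z = z := fun z =>
    ⟨fun h => by_contra fun hne => hk (D.dvd_of_fix hne h),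
      fun h => Equiv.Perm.zpow_apply_eq_self_of_apply_eq_self h k⟩
  have h1 : (D.v ^ k).IsCycle := by
    refine ⟨D.o, fun h => D.hvo ((hfixk _).1 h), fun z hz => ?_⟩
    obtain ⟨i, -, hi⟩ := D.gen z fun h => hz ((hfixk _).2 h)
    refine ⟨y * i, ?_⟩
    rw [← zpow_mul, ← hi, ← zpow_natCast]
    exact congrArg (· D.o) (D.zpow_eq_of_dvd ⟨-(i * x), by linear_combination (i : ℤ) * hxy⟩)
  have h2 : D.v.IsCycle := by
    refine ⟨D.o, D.hvo, fun z hz => ?_⟩
    obtain ⟨i, -, hi⟩ := D.gen z hz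
    exact ⟨i, by rwa [zpow_natCast]⟩
  obtain ⟨u, hu⟩ := isConj_iff.1 (h1.isConj h2 (congrArg Finset.card
    (Finset.ext fun z => by simp only [Perm.mem_support, ne_eq, hfixk])))
  exact ⟨u, hu⟩

/-- No two transitive group without fibre elements. -/
theorem not_two_transitive (hW : Wev m 2 ≤ G)
    (h2 : ∀ a b x y : Pt m 2, a ≠ b → x ≠ y → ∃ g ∈ G, g a = x ∧ g b = y)
    (hA : ¬ alternatingGroup (Pt m 2) ≤ G) (hk : D.Kill G) : False := by
  classical
  obtain ⟨i, hi⟩ := D.pres_or hW h2 hA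
  obtain ⟨f, h, hf, hh, hne, hfh⟩ : ∃ f h : Pt m 2,
      D.CD (f 0) ∧ D.CD (h 0) ∧ f ≠ h ∧ f i = h i := by
    fin_cases i
    · exact ⟨![D.c, D.o], ![D.c, D.c], .inl rfl, .inl rfl,
        fun e => D.not_CD_o (.inl (congrFun e 1)), rfl⟩
    · exact ⟨![D.c, D.o], ![D.d, D.o], .inl rfl, .inr rfl,
        fun e => D.hcd (congrFun e 0), rfl⟩
  have hab : (![D.c, D.c] : Pt m 2) ≠ ![D.d, D.d] := fun e => D.hcd (congrFun e 0)
  obtain ⟨g, hg, hga, hgb⟩ := h2 f h _ _ hne hab
  have hvG : coord (0 : Fin 2) D.v ∈ G := hW (coord_mem_Wev_of_sign 0 D.sign_v)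
  have hw : g * coord (0 : Fin 2) D.v * g⁻¹ ∈ D.stab G := by
    refine ⟨mul_mem (mul_mem hg hvG) (inv_mem hg), ?_, ?_⟩
    · rw [Perm.mul_apply, Perm.mul_apply, Perm.inv_eq_iff_eq.2 hga.symm,
        (D.coord_fix_iff 0 f).2 hf, hga]
    · rw [Perm.mul_apply, Perm.mul_apply, Perm.inv_eq_iff_eq.2 hgb.symm,
        (D.coord_fix_iff 0 h).2 hh, hgb]
  obtain ⟨l, hl, hlw⟩ := D.exists_conj_mem_trans hW hk hw (by
    rw [conj_pow, D.coord_pow_p, mul_one, mul_inv_cancel])
  have hlg : l * (g * coord (0 : Fin 2) D.v * g⁻¹) * l⁻¹ =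
      (l * g) * coord (0 : Fin 2) D.v * (l * g)⁻¹ := by group
  rw [hlg] at hlw
  obtain ⟨j, k, hk', hjk⟩ := D.conj_dichotomy hlw
  obtain ⟨u, hu⟩ := D.exists_conj_pow hk'
  -- an element of `W` carrying the new cycle to the first one
  let π : Perm (Fin 2) := Equiv.swap 0 j
  have hπj : π j = 0 := Equiv.swap_apply_right _ _
  obtain ⟨τ, hτG, hτ⟩ : ∃ τ : Fin 2 → Perm (Fin m), act π τ ∈ G ∧
      act π τ * coord j (D.v ^ k) * (act π τ)⁻¹ = coord (0 : Fin 2) D.v := by
    have h0 : act π (fun _ => u) * coord j (D.v ^ k) * (act π (fun _ => u))⁻¹ =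
        coord (0 : Fin 2) D.v := by rw [act_conj_coord, hπj, hu]
    rcases Int.units_eq_one_or (sign (act π fun _ => u)) with hs | hs
    · exact ⟨_, hW (mem_Wev.2 ⟨act_mem_W _ _, .inr hs⟩), h0⟩
    · set s := coord (0 : Fin 2) (Equiv.swap D.c D.d) with hsdef
      refine ⟨fun i => Pi.mulSingle (M := fun _ => Perm (Fin m)) 0 (Equiv.swap D.c D.d) i * u, ?_⟩
      have e : act π (fun i => Pi.mulSingle (M := fun _ => Perm (Fin m)) 0 (Equiv.swap D.c D.d) i * u)
          = s * act π (fun _ => u) := by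
        rw [hsdef]; show _ = act 1 _ * _
        rw [act_mul, one_mul]
      rw [e]
      refine ⟨hW (mem_Wev.2 ⟨mul_mem (coord_mem_W _ _) (act_mem_W _ _), .inr ?_⟩), ?_⟩
      · rw [map_mul, hs, hsdef, sign_coord_of_odd D.hm, Perm.sign_swap D.hcd]; decide
      · calc _ = s * (act π (fun _ => u) * coord j (D.v ^ k) * (act π (fun _ => u))⁻¹) * s⁻¹ := by
              group
          _ = _ := by
              rw [h0, hsdef, mul_inv_eq_iff_eq_mul, ← map_mul, ← map_mul, D.CD_swap_comm.eq]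
  have hC : act π τ * (l * g) ∈ D.cent G := by
    refine D.mem_cent.2 ⟨mul_mem hτG (mul_mem hl.1 hg), ?_⟩
    refine mul_inv_eq_iff_eq_mul.1 ?_
    calc _ = act π τ * ((l * g) * coord (0 : Fin 2) D.v * (l * g)⁻¹) * (act π τ)⁻¹ := by group
      _ = _ := by rw [hjk, ← map_zpow, hτ]
  have hfin := hi _ hC f h hf hh hfh
  rw [Perm.mul_apply, Perm.mul_apply, Perm.mul_apply, Perm.mul_apply, hga, hgb, hl.2.1, hl.2.2,
    act_apply, act_apply] at hfin
  have hcon := (τ i).injective hfin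
  have hv : ∀ x : Fin m, ∀ i : Fin 2, (![x, x] : Pt m 2) i = x := fun x i => by
    fin_cases i <;> rfl
  rw [hv, hv] at hcon
  exact D.hcd hcon

end TwoData

end Cfsg.Agent.ProdAction
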